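import Cfsg.Agent.H95.SuzY.Main

/-!
From the hypotheses as stated to the quotient, and back to the conclusions.
-/

set_option autoImplicit false
set_option maxRecDepth 10000

namespace H95.SuzY

open H73.Suz
open scoped commutatorElement

variable {G : Type*} [Group G] [Finite G] {z : G}

theorem centralizer_zpowers (y : G) :
    Subgroup.centralizer ((Subgroup.zpowers y : Subgroup G) : Set G) =
      Subgroup.centralizer ({y} : Set G) := by
  rw [Subgroup.zpowers_eq_closure, Subgroup.centralizer_closure]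

/-- Generators and coordinates from the subgroup of order three. -/
theorem exists_yd {Q0 : Subgroup (Subgroup.centralizer ({z} : Set G))} {co : G → ℕ}
    (H : Data z (Q0.map (Subgroup.centralizer ({z} : Set G)).subtype) co)
    (Y : Subgroup (Subgroup.centralizer ({z} : Set G))) (hY : Nat.card Y = 3)
    (hQY : Nat.card ↥⁅Q0, Y⁆ = 8) (hQYna : ¬ IsMulCommutative ↥⁅Q0, Y⁆) :
    ∃ y, Y.map (Subgroup.subtype (Subgroup.centralizer ({z} : Set G))) = Subgroup.zpowers y ∧
      ∃ co', YD z (Q0.map (Subgroup.centralizer ({z} : Set G)).subtype) co' y := by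
  classical
  set Q := Q0.map (Subgroup.centralizer ({z} : Set G)).subtype with hQd
  have : Fact (Nat.Prime 3) := ⟨Nat.prime_three⟩
  have hYne : Y ≠ ⊥ := fun h => by rw [h, Subgroup.card_bot] at hY; omega
  obtain ⟨yc, hycY, hyc1⟩ := (Y.bot_or_exists_ne_one).resolve_left hYne
  have hyo : orderOf yc = 3 := by
    have h := Subgroup.orderOf_dvd_natCard Y hycY
    rw [hY] at h
    exact ((Nat.dvd_prime Nat.prime_three).mp h).resolve_left fun e => hyc1 (orderOf_eq_one_iff.mp e)
  have hYz : Y = Subgroup.zpowers yc := (Subgroup.eq_of_le_of_card_ge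
    (Subgroup.zpowers_le.mpr hycY) (by rw [Nat.card_zpowers, hyo, hY])).symm
  set y : G := (yc : G) with hyd
  have hy3c : yc * yc * yc = 1 := by rw [← pow_three', ← hyo]; exact pow_orderOf_eq_one yc
  have hy3 : y * y * y = 1 := congrArg Subtype.val hy3c
  have hyne : y ≠ 1 := fun h => hyc1 (Subtype.ext h)
  have hyz : Commute y z := Subgroup.mem_centralizer_singleton_iff.mp yc.2
  obtain ⟨g, hg, I⟩ := H.exists_act hyz
  let f : ℕ → ℕ := fun v => g v ^^^ v
  let W : Finset ℕ := (Finset.range 64).image f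
  have fadd : ∀ m < 64, ∀ n < 64, f (m ^^^ n) = f m ^^^ f n := fun m hm n hn => by
    simp only [f, I.add m hm n hn, Nat.xor_assoc, Nat.xor_comm, Nat.xor_left_comm]
  have Wlt : ∀ w ∈ W, ∃ v < 64, f v = w := fun w hw => by
    simpa [W] using hw
  have memW : ∀ v < 64, f v ∈ W := fun v hv =>
    Finset.mem_image.mpr ⟨v, Finset.mem_range.mpr hv, rfl⟩
  have Wxor : ∀ u ∈ W, ∀ v ∈ W, u ^^^ v ∈ W := by
    intro u hu v hv
    obtain ⟨m, hm, rfl⟩ := Wlt u hu
    obtain ⟨n, hn, rfl⟩ := Wlt v hv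
    rw [← fadd m hm n hn]
    exact memW _ (xlt hm hn)
  -- commutators
  have hQmem : ∀ q : ↥(Subgroup.centralizer ({z} : Set G)), q ∈ Q0 → (q : G) ∈ Q := fun q hq => ⟨q, hq, rfl⟩
  have hcom : ∀ q : ↥(Subgroup.centralizer ({z} : Set G)), q ∈ Q0 → co ((⁅q, yc⁆ : ↥(Subgroup.centralizer ({z} : Set G))) : G) = f (co q) ∧
      co ((⁅q, yc * yc⁆ : ↥(Subgroup.centralizer ({z} : Set G))) : G) = g (g (co q)) ^^^ co q ∧
      ((⁅q, yc⁆ : ↥(Subgroup.centralizer ({z} : Set G))) : G) ∈ Q ∧ ((⁅q, yc * yc⁆ : ↥(Subgroup.centralizer ({z} : Set G))) : G) ∈ Q := by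
    intro q hq
    have hqQ := hQmem q hq
    have h1 := H.nor y hyz.eq _ (inv_mem hqQ)
    have h2 := H.nor (y * y) (hyz.mul_left hyz).eq _ (inv_mem hqQ)
    have e1 : ((⁅q, yc⁆ : ↥(Subgroup.centralizer ({z} : Set G))) : G) = q * (y * (q : G)⁻¹ * y⁻¹) := by
      simp [commutatorElement_def, hyd, mul_assoc]
    have e2 : ((⁅q, yc * yc⁆ : ↥(Subgroup.centralizer ({z} : Set G))) : G) = q * (y * y * (q : G)⁻¹ * (y * y)⁻¹) := by
      simp [commutatorElement_def, hyd, mul_assoc]
    refine ⟨?_, ?_, e1 ▸ mul_mem hqQ h1, e2 ▸ mul_mem hqQ h2⟩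
    · rw [e1, H.mul _ hqQ _ h1, hg _ (inv_mem hqQ), H.co_inv hqQ, Nat.xor_comm]
    · rw [e2, H.mul _ hqQ _ h2, H.acts_mul hyz hg hg _ (inv_mem hqQ), H.co_inv hqQ, Nat.xor_comm]
  have hYcases : ∀ u ∈ Y, u = 1 ∨ u = yc ∨ u = yc * yc := by
    intro u hu
    rw [hYz] at hu
    obtain ⟨k, rfl⟩ := hu
    have h3 : yc ^ (3 : ℤ) = 1 := by rw [zpow_ofNat, pow_three', hy3c]
    have e : yc ^ k = yc ^ (k % 3) := by
      conv_lhs => rw [← Int.emod_add_mul_ediv k 3]
      rw [zpow_add, zpow_mul, h3, one_zpow, mul_one]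
    show yc ^ k = 1 ∨ yc ^ k = yc ∨ yc ^ k = yc * yc
    rw [e]
    obtain h | h | h : k % 3 = 0 ∨ k % 3 = 1 ∨ k % 3 = 2 := by omega
    · exact Or.inl (by rw [h, zpow_zero])
    · exact Or.inr (Or.inl (by rw [h, zpow_one]))
    · exact Or.inr (Or.inr (by rw [h, zpow_ofNat, pow_two]))
  let M : Subgroup ↥(Subgroup.centralizer ({z} : Set G)) :=
    { carrier := {u | (u : G) ∈ Q ∧ co (u : G) ∈ W}
      one_mem' := ⟨one_mem Q, by
        show co (1 : G) ∈ W
        rw [H.co_one]
        simpa [f, I.zero] using memW 0 (by norm_num)⟩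
      mul_mem' := fun {a b} ha hb => ⟨mul_mem ha.1 hb.1, by
        show co ((a : G) * b) ∈ W
        rw [H.mul _ ha.1 _ hb.1]; exact Wxor _ ha.2 _ hb.2⟩
      inv_mem' := fun {a} ha => ⟨inv_mem ha.1, by
        show co (a : G)⁻¹ ∈ W
        rw [H.co_inv ha.1]; exact ha.2⟩ }
  have hle : ⁅Q0, Y⁆ ≤ M := by
    rw [Subgroup.commutator_le]
    intro q hq u hu
    obtain ⟨c1, c2, m1, m2⟩ := hcom q hq
    rcases hYcases u hu with rfl | rfl | rfl
    · rw [commutatorElement_one_right]; exact M.one_mem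
    · exact ⟨m1, c1 ▸ memW _ (H.lt _)⟩
    · refine ⟨m2, ?_⟩
      have hgq : g (co q) < 64 := I.lt _ (H.lt _)
      have e : g (g (co q)) ^^^ co q = f (g (co q)) ^^^ f (co q) := by
        simp only [f]
        rw [← Nat.xor_assoc, xor_cancel]
      rw [c2, e]
      exact Wxor _ (memW _ hgq) _ (memW _ (H.lt _))
  have hWS : ∀ w ∈ W, ∃ u ∈ ⁅Q0, Y⁆, co (u : G) = w := by
    intro w hw
    obtain ⟨v, hv, rfl⟩ := Wlt w hw
    obtain ⟨_, ⟨q, hq, rfl⟩, rfl⟩ := H.surj v hv
    exact ⟨⁅q, yc⁆, Subgroup.commutator_mem_commutator hq hycY, (hcom q hq).1⟩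
  choose u hu huw using hWS
  let F : ↥⁅Q0, Y⁆ → W := fun x => ⟨co ((x : ↥(Subgroup.centralizer ({z} : Set G))) : G), (hle x.2).2⟩
  have hW4 : W.card = 4 := by
    by_cases hzS : ∃ x ∈ ⁅Q0, Y⁆, (x : G) = z
    · obtain ⟨x, hx, hxz⟩ := hzS
      let F2 : Bool × W → ↥⁅Q0, Y⁆ := fun p =>
        ⟨if p.1 then u p.2 p.2.2 * x else u p.2 p.2.2, by
          split
          · exact mul_mem (hu _ _) hx
          · exact hu _ _⟩
      have huQ : ∀ w (h : w ∈ W), ((u w h : ↥(Subgroup.centralizer ({z} : Set G))) : G) ∈ Q := fun w h => (hle (hu w h)).1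
      have hF2 : Function.Bijective F2 := by
        constructor
        · rintro ⟨a, v⟩ ⟨b, w⟩ h
          have h' := congrArg (fun r : ↥⁅Q0, Y⁆ => co ((r : ↥(Subgroup.centralizer ({z} : Set G))) : G)) h
          have hvw : v = w := by
            refine Subtype.ext ?_
            cases a <;> cases b <;>
              simpa [F2, hxz, H.co_mul_z (huQ _ _), huw] using h'
          subst hvw
          have h'' := congrArg (fun r : ↥⁅Q0, Y⁆ => ((r : ↥(Subgroup.centralizer ({z} : Set G))) : G)) h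
          cases a <;> cases b <;> simp [F2, hxz, H.z_ne] at h'' ⊢
        · rintro ⟨r, hr⟩
          have hw := (hle hr).2
          rcases H.co_eq (huQ _ hw) (hle hr).1 (huw _ hw) with e | e
          · exact ⟨(false, ⟨_, hw⟩), Subtype.ext (Subtype.ext e.symm)⟩
          · exact ⟨(true, ⟨_, hw⟩), Subtype.ext (Subtype.ext (by
              show ((u _ hw : ↥(Subgroup.centralizer ({z} : Set G))) : G) * (x : G) = r
              rw [hxz]; exact e.symm))⟩
      have h := Nat.card_eq_of_bijective F2 hF2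
      rw [Nat.card_prod, hQY, Nat.card_eq_fintype_card (α := Bool), Fintype.card_bool,
        Nat.card_eq_fintype_card (α := W), Fintype.card_coe] at h
      omega
    · exfalso
      refine hQYna ⟨⟨fun a b => ?_⟩⟩
      have hc : ((⁅(a : ↥(Subgroup.centralizer ({z} : Set G))), (b : ↥(Subgroup.centralizer ({z} : Set G)))⁆ : ↥(Subgroup.centralizer ({z} : Set G))) : G) = 1 ∨ ((⁅(a : ↥(Subgroup.centralizer ({z} : Set G))), (b : ↥(Subgroup.centralizer ({z} : Set G)))⁆ : ↥(Subgroup.centralizer ({z} : Set G))) : G) = z := by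
        have ha := (hle a.2).1
        have hb := (hle b.2).1
        have e : ((⁅(a : ↥(Subgroup.centralizer ({z} : Set G))), (b : ↥(Subgroup.centralizer ({z} : Set G)))⁆ : ↥(Subgroup.centralizer ({z} : Set G))) : G) =
            ((a : ↥(Subgroup.centralizer ({z} : Set G))) : G) * ((b : ↥(Subgroup.centralizer ({z} : Set G))) : G) * ((a : ↥(Subgroup.centralizer ({z} : Set G))) : G)⁻¹ * ((b : ↥(Subgroup.centralizer ({z} : Set G))) : G)⁻¹ := by
          simp [commutatorElement_def]
        have hm : ((a : ↥(Subgroup.centralizer ({z} : Set G))) : G) * ((b : ↥(Subgroup.centralizer ({z} : Set G))) : G) * ((a : ↥(Subgroup.centralizer ({z} : Set G))) : G)⁻¹ * ((b : ↥(Subgroup.centralizer ({z} : Set G))) : G)⁻¹ ∈ Q :=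
          mul_mem (mul_mem (mul_mem ha hb) (inv_mem ha)) (inv_mem hb)
        rw [e]
        refine H.ker _ hm ?_
        rw [H.mul _ (mul_mem (mul_mem ha hb) (inv_mem ha)) _ (inv_mem hb),
          H.mul _ (mul_mem ha hb) _ (inv_mem ha), H.mul _ ha _ hb, H.co_inv ha, H.co_inv hb]
        simp [Nat.xor_assoc, Nat.xor_comm, Nat.xor_left_comm]
      rcases hc with e | e
      · exact Subtype.ext (commutatorElement_eq_one_iff_mul_comm.mp (Subtype.ext e))
      · exact absurd ⟨_, by
          rw [commutatorElement_def]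
          exact mul_mem (mul_mem (mul_mem a.2 b.2) (inv_mem a.2)) (inv_mem b.2), e⟩ hzS
  have hrange : Nat.card (Set.range fun q : Q => co (y * q * y⁻¹) ^^^ co q) = 4 := by
    rw [← hW4, Nat.card_coe_set_eq, ← Set.ncard_coe_finset]
    refine congrArg Set.ncard (Set.ext fun n => ?_)
    simp only [W, f, Finset.coe_image, Finset.coe_range, Set.mem_image, Set.mem_Iio, Set.mem_range]
    constructor
    · rintro ⟨⟨q, hq⟩, rfl⟩
      exact ⟨co q, H.lt q, by rw [hg q hq]⟩
    · rintro ⟨v, hv, rfl⟩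
      obtain ⟨q, hq, rfl⟩ := H.surj v hv
      exact ⟨⟨q, hq⟩, by simp only [hg q hq]⟩
  obtain ⟨c, hc, hact⟩ := exists_std H hyz hy3 hrange
  exact ⟨y, by rw [hYz, MonoidHom.map_zpowers]; rfl, _, ⟨data_conj H hc, hy3, hyne, hyz, hact⟩⟩

namespace YD

variable {Q : Subgroup G} {co : G → ℕ} {y : G}

theorem relIndex_eq_two (D : YD z Q co y) :
    (Subgroup.centralizer ((Subgroup.zpowers y : Subgroup G) : Set G)).relIndex
      (Subgroup.normalizer ((Subgroup.zpowers y : Subgroup G) : Set G)) = 2 := by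
  obtain ⟨c, -, hc⟩ := D.exists_inverter
  have hconj : ∀ n : G, n ∈ Subgroup.normalizer ((Subgroup.zpowers y : Subgroup G) : Set G) →
      n * y * n⁻¹ = y ∨ n * y * n⁻¹ = y⁻¹ := by
    intro n hn
    have h := (Subgroup.mem_normalizer_iff.mp hn y).mp (Subgroup.mem_zpowers y)
    rcases D.mem_zpowers_cases h with e | e | e
    · exact absurd (conj_eq_one_iff.mp e) D.y_ne
    · exact Or.inl e
    · exact Or.inr e
  have hyy : y ≠ y⁻¹ := fun h => D.y_ne (by
    have h2 : y * y = 1 := by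
      conv_lhs => arg 2; rw [h]
      exact mul_inv_cancel y
    have := D.y3
    rwa [h2, one_mul] at this)
  have hcN : c ∈ Subgroup.normalizer ((Subgroup.zpowers y : Subgroup G) : Set G) := by
    rw [Subgroup.mem_normalizer_iff]
    intro u
    constructor
    · rintro ⟨k, rfl⟩
      exact ⟨-k, by rw [← conj_zpow, hc, inv_zpow']⟩
    · rintro ⟨k, hk⟩
      refine ⟨-k, ?_⟩
      have hk' : y ^ k = c * u * c⁻¹ := hk
      calc y ^ (-k) = c⁻¹ * (c * y ^ (-k) * c⁻¹) * c := by group
        _ = c⁻¹ * (c * u * c⁻¹) * c := by rw [← conj_zpow, hc, inv_zpow', neg_neg, hk']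
        _ = u := by group
  rw [centralizer_zpowers, Subgroup.relIndex, Subgroup.index_eq_two_iff]
  refine ⟨⟨c, hcN⟩, fun b => ?_⟩
  simp only [Subgroup.mem_subgroupOf, Subgroup.coe_mul, Subgroup.mem_centralizer_singleton_iff]
  have hb : ∀ n : G, n * y = y * n ↔ n * y * n⁻¹ = y := fun n => mul_inv_eq_iff_eq_mul.symm
  rw [hb, hb]
  have e : (b : G) * c * y * ((b : G) * c)⁻¹ = ((b : G) * y * (b : G)⁻¹)⁻¹ := by
    calc (b : G) * c * y * ((b : G) * c)⁻¹ = b * (c * y * c⁻¹) * (b : G)⁻¹ := by group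
      _ = _ := by rw [hc]; group
  rw [e]
  rcases hconj _ b.2 with h | h <;> rw [h]
  · exact Or.inr ⟨rfl, fun h' => hyy h'.symm⟩
  · exact Or.inl ⟨inv_inv y, fun h' => hyy h'.symm⟩

end YD

/-- Conclusions from the structure of the quotient. -/
theorem quasisimple_of {Q : Subgroup G} {co : G → ℕ} {y : G} (D : YD z Q co y)
    (P : Type*) [Group P] [IsSimpleGroup P]
    [((Subgroup.zpowers y).subgroupOf
      (Subgroup.centralizer ((Subgroup.zpowers y : Subgroup G) : Set G))).Normal]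
    (e : ↥(Subgroup.centralizer ((Subgroup.zpowers y : Subgroup G) : Set G)) ⧸
      (Subgroup.zpowers y).subgroupOf
        (Subgroup.centralizer ((Subgroup.zpowers y : Subgroup G) : Set G)) ≃* P)
    (hraw : ∀ zb, (∀ h, zb = QuotientGroup.mk' ((Subgroup.zpowers y).subgroupOf
        (Subgroup.centralizer ((Subgroup.zpowers y : Subgroup G) : Set G))) ⟨z, h⟩) →
      ∃ mu, H87.U43.Raw zb mu)
    (hfact : ∀ zb (mu : H87.U43.SL2 × H87.U43.SL2 →* ↥(Subgroup.centralizer
        ((Subgroup.zpowers y : Subgroup G) : Set G)) ⧸ (Subgroup.zpowers y).subgroupOf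
          (Subgroup.centralizer ((Subgroup.zpowers y : Subgroup G) : Set G))),
      H87.U43.Raw zb mu → InDer (mu (H87.U43.sX, 1))) :
    Cfsg.IsQuasisimple ↥(Subgroup.centralizer ((Subgroup.zpowers y : Subgroup G) : Set G)) := by
  set C := Subgroup.centralizer ((Subgroup.zpowers y : Subgroup G) : Set G) with hC
  set YY := (Subgroup.zpowers y).subgroupOf C with hYY
  haveI : IsSimpleGroup (C ⧸ YY) := e.isSimpleGroup
  let i : Subgroup.centralizer ({y} : Set G) ≃* C :=
    MulEquiv.subgroupCongr (centralizer_zpowers y).symm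
  let π : Subgroup.centralizer ({y} : Set G) →* C ⧸ YY := (QuotientGroup.mk' YY).comp i.toMonoidHom
  have hπ : Function.Surjective π := (QuotientGroup.mk'_surjective YY).comp i.surjective
  have hker : ∀ c, π c = 1 ↔ (c : G) ∈ Subgroup.zpowers y := fun c =>
    (QuotientGroup.eq_one_iff (i c)).trans Iff.rfl
  have hzC : z ∈ C := by
    rw [hC, centralizer_zpowers, Subgroup.mem_centralizer_singleton_iff]
    exact D.yz.symm.eq
  obtain ⟨hyU, hperf⟩ := D.y_mem_commutator (C ⧸ YY) π hπ hker (QuotientGroup.mk' YY ⟨z, hzC⟩)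
    (fun _ => rfl) (hraw _ fun _ => rfl) (hfact _)
  rw [← centralizer_zpowers, ← hC] at hyU
  have hYU : YY ≤ commutator C := by
    intro c hc
    have hcc : (c : G) ∈ (commutator C).map C.subtype := by
      rw [commutator_def, Subgroup.map_commutator, ← MonoidHom.range_eq_map, C.range_subtype]
      exact Subgroup.zpowers_le.mpr hyU hc
    obtain ⟨d, hd, hdc⟩ := hcc
    rwa [← Subtype.ext hdc]
  have htop : commutator C = ⊤ := by
    have h : (commutator C).map (QuotientGroup.mk' YY) = ⊤ := by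
      rw [commutator_def, Subgroup.map_commutator,
        Subgroup.map_top_of_surjective _ (QuotientGroup.mk'_surjective YY), ← commutator_def, hperf]
    have h2 := congrArg (Subgroup.comap (QuotientGroup.mk' YY)) h
    rw [Subgroup.comap_map_eq, QuotientGroup.ker_mk', Subgroup.comap_top] at h2
    rwa [sup_eq_left.mpr hYU] at h2
  refine ⟨⟨htop⟩, ?_⟩
  have hcent : Subgroup.center C = YY := by
    refine le_antisymm (fun c hc => ?_) (fun c hc => Subgroup.mem_center_iff.mpr fun d =>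
      Subtype.ext (Subgroup.mem_centralizer_iff.mp d.2 c hc).symm)
    have hbot : Subgroup.center (C ⧸ YY) = ⊥ := by
      refine (inferInstance : (Subgroup.center (C ⧸ YY)).Normal).eq_bot_or_eq_top.resolve_right
        fun h => ?_
      have hb : commutator (C ⧸ YY) = ⊥ := by
        rw [commutator_eq_bot_iff_center_eq_top, h]
      rw [hperf] at hb
      exact top_ne_bot hb
    have : QuotientGroup.mk' YY c ∈ Subgroup.center (C ⧸ YY) := Subgroup.mem_center_iff.mpr fun d => by
      obtain ⟨d, rfl⟩ := QuotientGroup.mk'_surjective YY d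
      rw [← map_mul, ← map_mul, Subgroup.mem_center_iff.mp hc d]
    rw [hbot, Subgroup.mem_bot] at this
    exact (QuotientGroup.eq_one_iff c).mp this
  exact (QuotientGroup.quotientMulEquivOfEq hcent).isSimpleGroup

end H95.SuzY
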