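import Cfsg.Agent.H95.SuzY.Fixed
import Cfsg.Agent.H68.CharP
import Cfsg.Prelude.Def_Solvable

/-!
The quotient of the centraliser of the element of order three has an involution whose centraliser
is that of the four-dimensional unitary group over nine elements.
-/

set_option autoImplicit false
set_option maxRecDepth 10000

namespace H95.SuzY

open H73.Suz

open H69 (lxQ LXFam)

open scoped Pointwise

theorem no_shift : (cWords.all fun w =>
    !([1, 2, 4, 8, 16].all fun v => actW w (g1 v) == g0 (g1 (actW w v))) &&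
    !([1, 2, 4, 8, 16].all fun v => actW w (g1 v) == g0 (g0 (g1 (actW w v)))) &&
    !([1, 2, 4, 8, 16].all fun v => actW w (g2 v) == g0 (g2 (actW w v))) &&
    !([1, 2, 4, 8, 16].all fun v => actW w (g2 v) == g0 (g0 (g2 (actW w v))))) = true := by
  decide +kernel

local notation "SL23" => Matrix.SpecialLinearGroup (Fin 2) (ZMod 3)

/-- Two generators with the relations of `Q8 : 3` generate a copy of `SL(2,3)`. -/
theorem iso_sl23 {K : Type*} [Group K] {a t : K} (h : H5.SL23Rel a t) :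
    Nonempty (Subgroup.closure ({a, t} : Set K) ≃* SL23) := by
  obtain ⟨hle, hfin⟩ := H5.card_le_of_sl23Rel h
  haveI := hfin
  set S := Subgroup.closure ({a, t} : Set K) with hS
  have haS : a ∈ S := Subgroup.subset_closure (Or.inl rfl)
  have htS : t ∈ S := Subgroup.subset_closure (Or.inr rfl)
  obtain ⟨ha, ht, hb, hb2, hba, htb⟩ := h
  obtain ⟨e⟩ := H67.quat_iso (k := 2) a (t * a * t⁻¹) (by rw [hb2, sq]) hba (by rw [ha]) hb
  have hQS : Subgroup.closure ({a, t * a * t⁻¹} : Set K) ≤ S := by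
    rw [Subgroup.closure_le]
    rintro x (rfl | hx)
    · exact haS
    · rw [Set.mem_singleton_iff] at hx; subst hx
      exact S.mul_mem (S.mul_mem htS haS) (S.inv_mem htS)
  have h8 : 8 ∣ Nat.card S := by
    have := Subgroup.card_dvd_of_le hQS
    rwa [Nat.card_congr e.toEquiv, Nat.card_eq_fintype_card, QuaternionGroup.card] at this
  have h3 : 3 ∣ Nat.card S := by
    have := orderOf_dvd_natCard (⟨t, htS⟩ : S)
    rwa [Subgroup.orderOf_mk, ht] at this
  have h24 : Nat.card S = 24 := le_antisymm hle (Nat.le_of_dvd Nat.card_pos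
    (Nat.Coprime.mul_dvd_of_dvd_of_dvd (by norm_num : Nat.Coprime 8 3) h8 h3))
  obtain ⟨a', t', hr', htop', hc'⟩ := H5.exists_sl23Rel
  refine H5.mulEquiv_of_sl23Rel (a₁ := (⟨a, haS⟩ : S)) (t₁ := ⟨t, htS⟩)
    ⟨by rw [Subgroup.orderOf_mk]; exact ha, by rw [Subgroup.orderOf_mk]; exact ht, ?_,
      Subtype.ext hb2, Subtype.ext hba, Subtype.ext htb⟩ hr' h24 hc' ?_ htop'
  · rintro ⟨i, hi⟩
    exact hb ⟨i, by simpa using congrArg Subtype.val hi⟩
  · refine Subgroup.map_injective S.subtype_injective ?_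
    rw [MonoidHom.map_closure, ← MonoidHom.range_eq_map, Subgroup.range_subtype, Set.image_pair]
    rfl

variable {G : Type*} [Group G] [Finite G] {z : G} {Q : Subgroup G} {co : G → ℕ} {y : G}

namespace YD

theorem y_pow_eq_one (D : YD z Q co y) {w : G} (hw : w ∈ Subgroup.zpowers y) :
    w * w * w = 1 := by
  obtain ⟨k, rfl⟩ := hw
  show y ^ k * y ^ k * y ^ k = 1
  rw [← zpow_add, ← zpow_add, show k + k + k = 3 * k by ring, zpow_mul,
    zpow_ofNat, pow_three', D.y3, one_zpow]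

theorem eq_one_of_mem (D : YD z Q co y) {w : G} (hw : w ∈ Subgroup.zpowers y) (h : w ∈ Q) :
    w = 1 := by
  have h3 := D.y_pow_eq_one hw
  have h4 := q_four D.H h
  rwa [pow_succ, pow_three', h3, one_mul] at h4

theorem eq_one_of_sq (D : YD z Q co y) {w : G} (hw : w ∈ Subgroup.zpowers y) (h : w * w = 1) :
    w = 1 := by
  have h3 := D.y_pow_eq_one hw
  rwa [h, one_mul] at h3

theorem comm_zy (D : YD z Q co y) {w : G} (hw : w ∈ Subgroup.zpowers y) : Commute w z := by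
  obtain ⟨k, rfl⟩ := hw
  exact D.yz.zpow_left k

/-- The hypotheses of unitary type hold in the quotient of the centraliser by `⟨y⟩`. -/
theorem quot_type (D : YD z Q co y) (K : Type*) [Group K] [Finite K]
    (π : Subgroup.centralizer ({y} : Set G) →* K) (hπ : Function.Surjective π)
    (hker : ∀ c, π c = 1 ↔ (c : G) ∈ Subgroup.zpowers y) :
    ∃ (zb : K) (H₁ H₂ : Subgroup (Subgroup.centralizer ({zb} : Set K)))
      (Qb : Subgroup (Subgroup.centralizer ({zb} : Set K))),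
      (∀ h, zb = π ⟨z, h⟩) ∧ orderOf zb = 2 ∧
      H₁ ⊔ H₂ = Subgroup.closure {x : Subgroup.centralizer ({zb} : Set K) | Odd (orderOf x)} ∧
      (H₁.subgroupOf (H₁ ⊔ H₂)).Normal ∧ (H₂.subgroupOf (H₁ ⊔ H₂)).Normal ∧
      Nonempty (H₁ ≃* SL23) ∧ Nonempty (H₂ ≃* SL23) ∧
      (H₁ ⊓ H₂).map (Subgroup.subtype (Subgroup.centralizer ({zb} : Set K))) =
        Subgroup.zpowers zb ∧
      Qb.Normal ∧ Qb = (Cfsg.pCore 2 ↥(H₁ ⊔ H₂)).map (Subgroup.subtype (H₁ ⊔ H₂)) ∧
      Cfsg.generalizedFittingSubgroup (Subgroup.centralizer ({zb} : Set K)) = Qb ∧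
      (∃ g : K, (∃ hq : g * zb * g⁻¹ ∈ Subgroup.centralizer ({zb} : Set K),
        (⟨g * zb * g⁻¹, hq⟩ : Subgroup.centralizer ({zb} : Set K)) ∈ Qb) ∧
          g * zb * g⁻¹ ≠ zb) ∧
      Nat.card ↥(Subgroup.centralizer ({zb} : Set K)) = 2 ^ 7 * 3 ^ 2 ∧
      ∀ g : K, g * zb * g⁻¹ ∈ Qb.map (Subgroup.subtype (Subgroup.centralizer ({zb} : Set K))) →
        g * zb * g⁻¹ ≠ zb →
        Nat.card ↥((Qb.map (Subgroup.subtype (Subgroup.centralizer ({zb} : Set K)))) ⊓
          (Qb.map (Subgroup.subtype (Subgroup.centralizer ({zb} : Set K)))).map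
            (MulAut.conj g).toMonoidHom) = 4 := by
  classical
  have hp : Fact (Nat.Prime 2) := ⟨Nat.prime_two⟩
  have H := D.H
  have hyc : ∀ {c : G}, c ∈ Subgroup.centralizer ({y} : Set G) ↔ Commute c y := fun {c} =>
    Subgroup.mem_centralizer_singleton_iff
  let zC : Subgroup.centralizer ({y} : Set G) := ⟨z, hyc.mpr D.yz.symm⟩
  let zb : K := π zC
  have heq : ∀ c d : Subgroup.centralizer ({y} : Set G), π c = π d →
      (c : G)⁻¹ * d ∈ Subgroup.zpowers y := fun c d h => by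
    have := (hker (c⁻¹ * d)).mp (by rw [map_mul, map_inv, h, inv_mul_cancel])
    simpa using this
  have hzb1 : zb ≠ 1 := fun h => H.z_ne (D.eq_one_of_mem ((hker zC).mp h) H.zmem)
  have hzo : orderOf zb = 2 := by
    refine orderOf_eq_prime ?_ hzb1
    rw [pow_two, ← map_mul, show zC * zC = 1 from Subtype.ext H.zz, map_one]
  -- the centraliser
  have hlift : ∀ c : Subgroup.centralizer ({y} : Set G),
      Commute (π c) zb ↔ (c : G) ∈ C0 z y := by
    intro c
    constructor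
    · intro h
      refine mem_C0.mpr ⟨?_, hyc.mp c.2⟩
      have hm := heq (zC * c) (c * zC) (by rw [map_mul, map_mul]; exact h.eq.symm)
      set w := (zC * c : Subgroup.centralizer ({y} : Set G)).1⁻¹ * (c * zC : Subgroup.centralizer ({y} : Set G)).1 with hw
      have hwe : (c : G)⁻¹ * z * c = z * w⁻¹ := by
        simp only [hw, zC, Subgroup.coe_mul, mul_inv_rev, inv_inv, H.z_inv]
        calc (c : G)⁻¹ * z * c = (z * z) * ((c : G)⁻¹ * z * c) := by rw [H.zz, one_mul]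
          _ = _ := by group
      have hwz : Commute z w⁻¹ := (D.comm_zy hm).symm.inv_right
      have hsq : w⁻¹ * w⁻¹ = 1 := by
        have : (z * w⁻¹) * (z * w⁻¹) = 1 := by
          rw [← hwe, show (c : G)⁻¹ * z * c * ((c : G)⁻¹ * z * c) = (c : G)⁻¹ * (z * z) * c by group,
            H.zz]
          group
        rwa [hwz.symm.mul_mul_mul_comm, H.zz, one_mul] at this
      have h1 := D.eq_one_of_sq (inv_mem hm) hsq
      rw [h1, mul_one] at hwe
      show (c : G) * z = z * c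
      calc (c : G) * z = c * ((c : G)⁻¹ * z * c) := by rw [hwe]
        _ = z * c := by group
    · intro h
      have e : c * zC = zC * c := Subtype.ext (mem_C0.mp h).1.eq
      show π c * π zC = π zC * π c
      rw [← map_mul, e, map_mul]
  let i0 : C0 z y →* Subgroup.centralizer ({y} : Set G) :=
    Subgroup.inclusion (fun c hc => hc.2)
  let φ : C0 z y →* Subgroup.centralizer ({zb} : Set K) := (π.comp i0).codRestrict _ fun c =>
    Subgroup.mem_centralizer_singleton_iff.mpr ((hlift (i0 c)).mpr c.2).eq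
  have hφ : Function.Surjective φ := by
    rintro ⟨k, hk⟩
    obtain ⟨c, rfl⟩ := hπ k
    have hc := (hlift c).mp (Subgroup.mem_centralizer_singleton_iff.mp hk)
    exact ⟨⟨c, hc⟩, Subtype.ext rfl⟩
  have hφk : ∀ c, φ c = 1 ↔ (c : G) ∈ Subgroup.zpowers y := fun c =>
    Subtype.ext_iff.trans (hker (i0 c))
  have hφeq : ∀ c d : C0 z y, φ c = φ d → (c : G)⁻¹ * d ∈ Subgroup.zpowers y := fun c d h => by
    have := (hφk (c⁻¹ * d)).mp (by rw [map_mul, map_inv, h, inv_mul_cancel])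
    simpa using this
  have hy0 : y ∈ C0 z y := mem_C0.mpr ⟨D.yz, Commute.refl y⟩
  have hcardC : Nat.card ↥(Subgroup.centralizer ({zb} : Set K)) = 2 ^ 7 * 3 ^ 2 := by
    have h1 := φ.ker.card_mul_index
    rw [Subgroup.index_ker, MonoidHom.range_eq_top.mpr hφ, Subgroup.card_top] at h1
    have h2 : Nat.card φ.ker = 3 := by
      rw [← show orderOf y = 3 from
        have : Fact (Nat.Prime 3) := ⟨Nat.prime_three⟩
        orderOf_eq_prime (by rw [pow_three', D.y3]) D.y_ne, ← Nat.card_zpowers]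
      exact Nat.card_congr
        { toFun := fun c => ⟨c.1.1, (hφk _).mp c.2⟩
          invFun := fun c => ⟨⟨c.1, Subgroup.zpowers_le.mpr hy0 c.2⟩, (hφk _).mpr c.2⟩
          left_inv := fun c => rfl
          right_inv := fun c => rfl }
    rw [h2, D.card_C0] at h1
    omega
  obtain ⟨t1, t2, a1, a2, Γ⟩ := D.exists_gens
  obtain ⟨⟨ma1, ma2⟩, ⟨c12, ct1, ct2⟩, rel1, rel2⟩ := D.gen_facts Γ
  let A1 : C0 z y := ⟨a1, ma1⟩
  let A2 : C0 z y := ⟨a2, ma2⟩
  let T1 : C0 z y := ⟨t1, Γ.m1⟩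
  let T2 : C0 z y := ⟨t2, Γ.m2⟩
  let z0 : C0 z y := ⟨z, mem_C0.mpr ⟨Commute.refl z, D.yz.symm⟩⟩
  let H₁ := Subgroup.closure ({φ A1, φ T1} : Set (Subgroup.centralizer ({zb} : Set K)))
  let H₂ := Subgroup.closure ({φ A2, φ T2} : Set (Subgroup.centralizer ({zb} : Set K)))
  let J := H₁ ⊔ H₂
  let N : Subgroup (C0 z y) := Q.subgroupOf (C0 z y)
  have hNn : N.Normal := ⟨fun n hn c => H.nor c (mem_C0.mp c.2).1.eq n hn⟩
  let Qb := N.map φ
  have hQbn : Qb.Normal := hNn.map φ hφ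
  have hzval : (φ z0 : K) = zb := rfl
  have mapRel : ∀ {a t : C0 z y}, (a : G) ∈ Q → (a : G) * a = z → H5.SL23Rel (a : G) t →
      H5.SL23Rel (φ a) (φ t) := by
    intro a t haQ haz hr
    obtain ⟨ha, ht, hb, hb2, hba, htb⟩ := hr
    have hbQ : (t : G) * a * (t : G)⁻¹ ∈ Q := H.nor t (mem_C0.mp t.2).1.eq a haQ
    refine ⟨?_, ?_, ?_, ?_, ?_, ?_⟩
    · rw [show (4 : ℕ) = 2 ^ (1 + 1) from rfl]
      refine orderOf_eq_prime_pow (fun h => ?_) ?_
      · rw [pow_one, sq, ← map_mul, show a * a = z0 from Subtype.ext haz] at h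
        exact hzb1 (congrArg Subtype.val h)
      · rw [← map_pow, show a ^ 2 ^ (1 + 1) = 1 from Subtype.ext (q_four H haQ), map_one]
    · have : Fact (Nat.Prime 3) := ⟨Nat.prime_three⟩
      refine orderOf_eq_prime ?_ fun h => hb ?_
      · rw [← map_pow, show t ^ 3 = 1 from Subtype.ext (by rw [← ht]; exact pow_orderOf_eq_one _), map_one]
      · obtain ⟨k, hk⟩ := (hφk t).mp h
        have hk' : y ^ k = (t : G) := hk
        rw [← hk', ((mem_C0.mp a.2).2.zpow_right k).symm.eq, mul_inv_cancel_right]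
        exact Subgroup.mem_zpowers _
    · rintro ⟨i, hi⟩
      refine hb ⟨i, ?_⟩
      have hm := hφeq (a ^ i) (t * a * t⁻¹) (by rw [map_zpow, map_mul, map_mul, map_inv]; exact hi)
      have h1 := D.eq_one_of_mem hm (mul_mem (inv_mem (zpow_mem haQ i)) hbQ)
      exact inv_mul_eq_one.mp h1
    · simp only [← map_mul, ← map_inv]; exact congrArg φ (Subtype.ext hb2)
    · simp only [← map_mul, ← map_inv]; exact congrArg φ (Subtype.ext hba)
    · simp only [← map_mul, ← map_inv]; exact congrArg φ (Subtype.ext htb)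
  have hz1 : a1 * a1 = z := H.sq_z Γ.q1 (by rw [Γ.c1]; rfl)
  have hz2 : a2 * a2 = z := H.sq_z Γ.q2 (by rw [Γ.c2]; rfl)
  have R1 := mapRel (a := A1) (t := T1) Γ.q1 hz1 rel1
  have R2 := mapRel (a := A2) (t := T2) Γ.q2 hz2 rel2
  have hy_one : φ ⟨y, hy0⟩ = 1 := (hφk _).mpr (Subgroup.mem_zpowers y)
  -- everything of `⟨a1, t1, a2, t2, y⟩` is in `J`
  let J' : Subgroup G := (J.comap φ).map (C0 z y).subtype
  have hJ' : ∀ c : C0 z y, (c : G) ∈ J' → φ c ∈ J := by
    rintro c ⟨d, hd, hdc⟩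
    rwa [← Subtype.ext hdc]
  have gA1 : φ A1 ∈ J := Subgroup.mem_sup_left (Subgroup.subset_closure (Or.inl rfl))
  have gT1 : φ T1 ∈ J := Subgroup.mem_sup_left (Subgroup.subset_closure (Or.inr rfl))
  have gA2 : φ A2 ∈ J := Subgroup.mem_sup_right (Subgroup.subset_closure (Or.inl rfl))
  have gT2 : φ T2 ∈ J := Subgroup.mem_sup_right (Subgroup.subset_closure (Or.inr rfl))
  have hR : Subgroup.closure ({y, t1, t2} : Set G) ≤ J' := by
    rw [Subgroup.closure_le]
    rintro x (rfl | rfl | rfl)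
    exacts [⟨⟨_, hy0⟩, (by show φ _ ∈ J; rw [hy_one]; exact one_mem J), rfl⟩, ⟨T1, gT1, rfl⟩,
      ⟨T2, gT2, rfl⟩]
  have hlow : Q ⊓ C0 z y ≤ J' := (D.low_mem Γ).trans (by
    rw [Subgroup.closure_le]
    rintro x (rfl | rfl | rfl | rfl)
    exacts [⟨A1, gA1, rfl⟩, ⟨T1, gT1, rfl⟩, ⟨A2, gA2, rfl⟩, ⟨T2, gT2, rfl⟩])
  have hQJ : Qb ≤ J := by
    rintro _ ⟨q, hq, rfl⟩
    exact hJ' q (hlow ⟨hq, q.2⟩)
  -- odd elements
  let O := Subgroup.closure {x : Subgroup.centralizer ({zb} : Set K) | Odd (orderOf x)}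
  have hodd : O ≤ J := by
    rw [Subgroup.closure_le]
    intro x hx
    obtain ⟨c, rfl⟩ := hφ x
    have h1 := D.y_pow_eq_one ((hφk _).mp (by rw [map_pow]; exact pow_orderOf_eq_one (φ c)))
    have hco : Odd (orderOf (c : G)) := by
      refine Odd.of_dvd_nat (Odd.mul (by decide : Odd 3) hx) (orderOf_dvd_of_pow_eq_one ?_)
      rw [mul_comm, pow_mul, pow_three']
      simpa using h1
    obtain ⟨r, hr, q, hq, e⟩ := D.odd_mem Γ c.2 hco
    exact hJ' c (by rw [e]; exact mul_mem (hR hr) (hlow hq))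
  have hOgen : ∀ {a t : Subgroup.centralizer ({zb} : Set K)}, H5.SL23Rel a t → a ∈ O ∧ t ∈ O := by
    intro a t hr
    have ht : t ∈ O := Subgroup.subset_closure (show Odd _ by rw [hr.2.1]; decide)
    have hat : a * t * a⁻¹ ∈ O := Subgroup.subset_closure (show Odd (orderOf (a * t * a⁻¹)) by
      rw [show a * t * a⁻¹ = MulAut.conj a t from rfl, MulEquiv.orderOf_eq, hr.2.1]; decide)
    refine ⟨?_, ht⟩
    have h2 : t * (a * t * a⁻¹ * t⁻¹) * t⁻¹ ∈ O := mul_mem (mul_mem ht (mul_mem hat (inv_mem ht))) (inv_mem ht)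
    rw [show t * (a * t * a⁻¹ * t⁻¹) * t⁻¹ = t * a * t⁻¹ * (t * (t * a * t⁻¹) * t⁻¹)⁻¹ by group,
      hr.2.2.2.2.2, mul_inv_rev, mul_inv_cancel_left] at h2
    exact inv_mem_iff.mp h2
  have hJO : J ≤ O := by
    refine sup_le ?_ ?_ <;> rw [Subgroup.closure_le] <;> rintro x (rfl | rfl)
    exacts [(hOgen R1).1, (hOgen R1).2, (hOgen R2).1, (hOgen R2).2]
  have hJ : J = O := le_antisymm hJO hodd
  have hJn : J.Normal := by
    refine ⟨fun n hn g => ?_⟩
    rw [hJ] at hn ⊢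
    have : O ≤ O.comap (MulAut.conj g).toMonoidHom := by
      rw [Subgroup.closure_le]
      intro x hx
      refine Subgroup.subset_closure (show Odd (orderOf (MulAut.conj g x)) from ?_)
      rwa [MulEquiv.orderOf_eq]
    exact this hn
  -- the two factors commute
  have comm : ∀ {c d : C0 z y}, Commute (c : G) d → Commute (φ c) (φ d) := fun {c d} h => by
    show φ c * φ d = φ d * φ c
    rw [← map_mul, ← map_mul, show c * d = d * c from Subtype.ext h.eq]
  have hcomm : H₂ ≤ Subgroup.centralizer (H₁ : Set (Subgroup.centralizer ({zb} : Set K))) := by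
    rw [Subgroup.centralizer_closure, Subgroup.closure_le]
    rintro x (rfl | rfl) <;> rw [SetLike.mem_coe, Subgroup.mem_centralizer_iff] <;>
      rintro u (rfl | rfl)
    exacts [(comm c12).eq, (comm (show Commute (T1 : G) A2 from ct1)).eq,
      (comm (show Commute (A1 : G) T2 from ct2.symm)).eq,
      (comm (show Commute (T1 : G) T2 from Γ.tt)).eq]
  have hcomm' : H₁ ≤ Subgroup.centralizer (H₂ : Set (Subgroup.centralizer ({zb} : Set K))) :=
    fun x hx => Subgroup.mem_centralizer_iff.mpr fun u hu =>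
      (Subgroup.mem_centralizer_iff.mp (hcomm hu) x hx).symm
  have hn₁ : (H₁.subgroupOf J).Normal := Subgroup.normal_subgroupOf_iff_le_normalizer le_sup_left |>.mpr
    (sup_le Subgroup.le_normalizer (hcomm.trans (Subgroup.centralizer_le_normalizer _)))
  have hn₂ : (H₂.subgroupOf J).Normal := Subgroup.normal_subgroupOf_iff_le_normalizer le_sup_right |>.mpr
    (sup_le (hcomm'.trans (Subgroup.centralizer_le_normalizer _)) Subgroup.le_normalizer)
  -- centraliser of `Qb`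
  have hcentQ : ∀ x, (∀ u ∈ Qb, Commute x u) → x = 1 ∨ x = φ z0 := by
    intro x hx
    obtain ⟨c, rfl⟩ := hφ x
    obtain ⟨k, hk⟩ := D.centralizes_low c.2 fun q hq => by
      have hm := hφeq (⟨q, hq.2⟩ * c) (c * ⟨q, hq.2⟩) (by
        rw [map_mul, map_mul]; exact (hx _ ⟨⟨q, hq.2⟩, hq.1, rfl⟩).eq.symm)
      have hmQ : ((⟨q, hq.2⟩ * c : C0 z y) : G)⁻¹ * ((c * ⟨q, hq.2⟩ : C0 z y) : G) ∈ Q := by
        have := mul_mem (H.nor (c : G)⁻¹ (mem_C0.mp c.2).1.inv_left.eq _ (inv_mem hq.1)) hq.1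
        simpa [mul_assoc] using this
      exact (inv_mul_eq_one.mp (D.eq_one_of_mem hm hmQ)).symm
    rcases hk with e | e
    · exact Or.inl ((hφk c).mpr (by rw [e]; exact pow_mem (Subgroup.mem_zpowers y) k))
    · refine Or.inr ?_
      rw [show c = ⟨y, hy0⟩ ^ k * z0 from Subtype.ext e, map_mul, map_pow, hy_one, one_pow, one_mul]
  have hmeet : (H₁ ⊓ H₂).map (Subgroup.subtype (Subgroup.centralizer ({zb} : Set K))) =
      Subgroup.zpowers zb := by
    have e : H₁ ⊓ H₂ = Subgroup.zpowers (φ z0) := by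
      refine le_antisymm (fun x hx => ?_) (Subgroup.zpowers_le.mpr ⟨?_, ?_⟩)
      · have hJc : J ≤ Subgroup.centralizer ({x} : Set (Subgroup.centralizer ({zb} : Set K))) :=
          sup_le (fun u hu => Subgroup.mem_centralizer_singleton_iff.mpr
              (Subgroup.mem_centralizer_iff.mp (hcomm hx.2) u hu))
            fun u hu => Subgroup.mem_centralizer_singleton_iff.mpr
              (Subgroup.mem_centralizer_iff.mp (hcomm' hx.1) u hu)
        rcases hcentQ x fun u hu =>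
            (Subgroup.mem_centralizer_singleton_iff.mp (hJc (hQJ hu))).symm with rfl | rfl
        exacts [one_mem _, Subgroup.mem_zpowers _]
      · rw [show z0 = A1 * A1 from Subtype.ext hz1.symm, map_mul]
        exact mul_mem (Subgroup.subset_closure (Or.inl rfl)) (Subgroup.subset_closure (Or.inl rfl))
      · rw [show z0 = A2 * A2 from Subtype.ext hz2.symm, map_mul]
        exact mul_mem (Subgroup.subset_closure (Or.inl rfl)) (Subgroup.subset_closure (Or.inl rfl))
    rw [e, MonoidHom.map_zpowers]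
    rfl
  -- elements of `J`
  let R0 : Subgroup (C0 z y) := (Subgroup.closure ({y, t1, t2} : Set G)).subgroupOf (C0 z y)
  have hRc : ∀ r : C0 z y, r ∈ R0 → r ^ 3 = 1 := by
    intro r hr
    have hcs : ∀ u ∈ ({y, t1, t2} : Set G), ∀ v ∈ ({y, t1, t2} : Set G), u * v = v * u := by
      have hy1 := (mem_C0.mp Γ.m1).2
      have hy2 := (mem_C0.mp Γ.m2).2
      rintro u (rfl | rfl | rfl) v (rfl | rfl | rfl)
      exacts [rfl, hy1.eq.symm, hy2.eq.symm, hy1.eq, rfl, Γ.tt.eq, hy2.eq, Γ.tt.eq.symm, rfl]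
    have := Subgroup.isMulCommutative_closure hcs
    refine Subtype.ext ?_
    show (r : G) ^ 3 = 1
    suffices ∀ x ∈ Subgroup.closure ({y, t1, t2} : Set G), x ^ 3 = 1 from this r hr
    intro x hr
    induction hr using Subgroup.closure_induction with
    | mem x hx =>
      rw [pow_three']
      rcases hx with rfl | rfl | rfl
      exacts [D.y3, Γ.o1, Γ.o2]
    | one => exact one_pow 3
    | mul a b ha hb iha ihb =>
      have hab : Commute a b := congrArg Subtype.val (this.is_comm.comm (⟨a, ha⟩ : Subgroup.closure ({y, t1, t2} : Set G)) ⟨b, hb⟩)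
      rw [hab.mul_pow, iha, ihb, one_mul]
    | inv a _ iha => rw [inv_pow, iha, inv_one]
  have hJmem : ∀ x ∈ J, ∃ r ∈ R0, ∃ q ∈ N, x = φ r * φ q := by
    intro x hx
    have hle : J ≤ (R0 ⊔ N).map φ := by
      refine sup_le ?_ ?_ <;> rw [Subgroup.closure_le] <;> rintro u (rfl | rfl)
      exacts [⟨A1, Subgroup.mem_sup_right Γ.q1, rfl⟩,
        ⟨T1, Subgroup.mem_sup_left (Subgroup.subset_closure
          (show t1 ∈ ({y, t1, t2} : Set G) by simp)), rfl⟩,
        ⟨A2, Subgroup.mem_sup_right Γ.q2, rfl⟩,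
        ⟨T2, Subgroup.mem_sup_left (Subgroup.subset_closure
          (show t2 ∈ ({y, t1, t2} : Set G) by simp)), rfl⟩]
    obtain ⟨u, hu, rfl⟩ := hle hx
    have hu' : u ∈ ((R0 : Set (C0 z y)) * (N : Set (C0 z y))) := by
      rw [← Subgroup.mul_normal]; exact hu
    obtain ⟨r, hr, q, hq, rfl⟩ := Set.mem_mul.mp hu'
    exact ⟨r, hr, q, hq, map_mul φ r q⟩
  have hQb2 : IsPGroup 2 (Qb.subgroupOf J) := by
    have h1 : IsPGroup 2 N := fun q => ⟨2, Subtype.ext (Subtype.ext (q_four H q.2))⟩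
    exact (h1.map φ).comap_subtype
  have hP : Cfsg.pCore 2 ↥J = Qb.subgroupOf J := by
    refine le_antisymm (fun x hx => ?_)
      (le_sSup ⟨Subgroup.normal_subgroupOf, hQb2⟩)
    obtain ⟨r, hr, q, hq, e⟩ := hJmem x x.2
    have hqP : (⟨φ q, hQJ ⟨q, hq, rfl⟩⟩ : J) ∈ Cfsg.pCore 2 ↥J :=
      (le_sSup ⟨Subgroup.normal_subgroupOf, hQb2⟩ : _ ≤ Cfsg.pCore 2 ↥J) ⟨q, hq, rfl⟩
    have hrm := mul_mem hx (inv_mem hqP)
    obtain ⟨n, hn⟩ := (Cfsg.Comp.pCore_isPGroup (G := ↥J) 2) ⟨_, hrm⟩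
    have hn' : φ r ^ 2 ^ n = 1 := by
      have := congrArg (fun u => ((u.1 : J) : Subgroup.centralizer ({zb} : Set K))) hn
      simpa [e] using this
    have h3 : φ r ^ 3 = 1 := by rw [← map_pow, hRc r hr, map_one]
    have h1 : φ r = 1 := by
      have hg := pow_gcd_eq_one.mpr ⟨hn', h3⟩
      rwa [(Nat.Coprime.pow_left n (by norm_num : Nat.Coprime 2 3)).gcd_eq_one, pow_one] at hg
    show (x : Subgroup.centralizer ({zb} : Set K)) ∈ Qb
    rw [e, h1, one_mul]
    exact ⟨q, hq, rfl⟩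
  have hQeq : Qb = (Cfsg.pCore 2 ↥J).map (Subgroup.subtype J) := by
    rw [hP, Subgroup.map_subgroupOf_eq_of_le hQJ]
  -- the 2-core of the centraliser
  have hcore : Cfsg.pCore 2 ↥(Subgroup.centralizer ({zb} : Set K)) = Qb := by
    refine le_antisymm ?_ (le_sSup ⟨hQbn, fun u => by
      obtain ⟨_, q, hq, rfl⟩ := u
      exact ⟨2, Subtype.ext (by
        show φ q ^ 4 = 1
        rw [← map_pow, show q ^ 4 = 1 from Subtype.ext (q_four H hq), map_one])⟩⟩)
    have hPn : (Cfsg.pCore 2 ↥(Subgroup.centralizer ({zb} : Set K))).Normal := inferInstance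
    set P := Cfsg.pCore 2 ↥(Subgroup.centralizer ({zb} : Set K))
    have hPJ : ∀ x ∈ P, x ∈ J → x ∈ Qb := by
      intro x hx hxJ
      have hle : P.subgroupOf J ≤ Qb.subgroupOf J := hP ▸
        le_sSup ⟨Subgroup.normal_subgroupOf, (Cfsg.Comp.pCore_isPGroup 2).comap_subtype⟩
      exact hle (x := ⟨x, hxJ⟩) hx
    intro x hx
    refine hPJ x hx ?_
    obtain ⟨c, rfl⟩ := hφ x
    obtain ⟨w, hw, hwa⟩ := D.exists_word c.2
    have key : ∀ (T : C0 z y) (g : ℕ → ℕ), Acts Q co (T : G) g → φ T ∈ J →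
        (∀ k : ℕ, k = 1 ∨ k = 2 → ¬ ∀ v < 64, actW w (g v) = g0^[k] (g (actW w v))) →
        (c : G) * T * (c : G)⁻¹ * (T : G)⁻¹ ∈ Q := by
      intro T g hT hTJ hno
      have hm : φ c * φ T * (φ c)⁻¹ * (φ T)⁻¹ ∈ Qb := by
        refine hPJ _ ?_ (mul_mem (hJn.conj_mem _ hTJ _) (inv_mem hTJ))
        rw [show φ c * φ T * (φ c)⁻¹ * (φ T)⁻¹ = φ c * (φ T * (φ c)⁻¹ * (φ T)⁻¹) by group]
        exact mul_mem hx (hPn.conj_mem _ (inv_mem hx) _)
      obtain ⟨q, hq, hqe⟩ := hm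
      obtain ⟨k, hk⟩ := hφeq q (c * T * c⁻¹ * T⁻¹)
        (by rw [hqe, map_mul, map_mul, map_mul, map_inv, map_inv])
      have hy3' : y ^ (3 : ℤ) = 1 := by
        rw [zpow_ofNat, pow_three', D.y3]
      obtain ⟨j, hj, hjk⟩ : ∃ j : ℕ, j < 3 ∧ y ^ k = y ^ j := by
        refine ⟨(k % 3).toNat, by omega, ?_⟩
        rw [← zpow_natCast, Int.toNat_of_nonneg (Int.emod_nonneg k (by norm_num))]
        conv_lhs => rw [← Int.emod_add_mul_ediv k 3]
        rw [zpow_add, zpow_mul, hy3', one_zpow, mul_one]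
      have hk' : y ^ j = (q : G)⁻¹ * ((c : G) * T * (c : G)⁻¹ * (T : G)⁻¹) := by
        rw [← hjk]; simpa using hk
      rcases Nat.eq_zero_or_pos j with rfl | hj0
      · rw [pow_zero] at hk'
        rw [← inv_mul_eq_one.mp hk'.symm]; exact hq
      · exfalso
        have hTz := (mem_C0.mp T.2).1
        have hcz := (mem_C0.mp c.2).1
        refine hno j (by omega) (H.acts_unique (H.acts_mul hTz hwa hT) ?_)
        rw [show (c : G) * T = (q : G) * (y ^ j * ((T : G) * c)) by rw [hk']; group]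
        exact H.acts_congr (H.acts_mul ((D.yz.pow_left j).mul_left (hTz.mul_left hcz))
          (H.acts_mem hq) (H.acts_mul (hTz.mul_left hcz) (acts_pow H D.yz D.act j)
            (H.acts_mul hcz hT hwa))) fun _ _ => rfl
    have hns := List.all_eq_true.mp no_shift w hw
    simp only [Bool.and_eq_true, Bool.not_eq_true'] at hns
    have notall : ∀ f h : ℕ → ℕ, ([1, 2, 4, 8, 16].all fun v => f v == h v) = false →
        ¬ ∀ v < 64, f v = h v := by
      intro f h hf hall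
      have : ([1, 2, 4, 8, 16].all fun v => f v == h v) = true := by
        simp only [List.all_eq_true, beq_iff_eq]
        intro v hv
        exact hall v (by simp only [List.mem_cons, List.not_mem_nil, or_false] at hv; omega)
      rw [hf] at this
      exact Bool.noConfusion this
    obtain ⟨r, hr, hrc⟩ := D.top_mem Γ c.2
      (key T1 g1 Γ.act1 gT1 fun k hk => by
        rcases hk with rfl | rfl
        exacts [notall _ _ hns.1.1.1, notall _ _ hns.1.1.2])
      (key T2 g2 Γ.act2 gT2 fun k hk => by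
        rcases hk with rfl | rfl
        exacts [notall _ _ hns.1.2, notall _ _ hns.2])
    refine hJ' c ?_
    rw [← mul_inv_cancel_left r (c : G)]
    exact mul_mem (hR hr) (hlow ⟨hrc, (C0 z y).mul_mem ((C0 z y).inv_mem (D.rclosure_le Γ hr)) c.2⟩)
  have hF : Cfsg.generalizedFittingSubgroup (Subgroup.centralizer ({zb} : Set K)) = Qb := by
    rw [← hcore]
    refine H68.gfs_eq_pCore_of_centralizer ?_
    rw [hcore]
    intro x hx
    rcases hcentQ x fun u hu => (Subgroup.mem_centralizer_iff.mp hx u hu).symm with rfl | rfl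
    exacts [one_mem _, ⟨z0, H.zmem, rfl⟩]
  -- fusion
  have hQmem : ∀ k : K, k ∈ Qb.map (Subgroup.subtype (Subgroup.centralizer ({zb} : Set K))) ↔
      ∃ q : Subgroup.centralizer ({y} : Set G), (q : G) ∈ Q ∧ π q = k := by
    intro k
    constructor
    · rintro ⟨_, ⟨q, hq, rfl⟩, rfl⟩
      exact ⟨i0 q, hq, rfl⟩
    · rintro ⟨q, hq, rfl⟩
      exact ⟨φ ⟨q, mem_C0.mpr ⟨H.comm_z hq, hyc.mp q.2⟩⟩, ⟨_, hq, rfl⟩, rfl⟩
  obtain ⟨e, s, hey, hsQ, hsy, hsz, hes⟩ := D.exists_fusion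
  have hfus : ∃ g : K, (∃ hq : g * zb * g⁻¹ ∈ Subgroup.centralizer ({zb} : Set K),
      (⟨g * zb * g⁻¹, hq⟩ : Subgroup.centralizer ({zb} : Set K)) ∈ Qb) ∧
        g * zb * g⁻¹ ≠ zb := by
    refine ⟨π ⟨e, hyc.mpr hey⟩, ?_⟩
    have he : π ⟨e, hyc.mpr hey⟩ * zb * (π ⟨e, hyc.mpr hey⟩)⁻¹ = π ⟨s, hyc.mpr hsy⟩ := by
      rw [← map_inv, ← map_mul, ← map_mul]
      exact congrArg π (Subtype.ext hes)
    simp only [he]
    refine ⟨⟨(φ ⟨s, mem_C0.mpr ⟨H.comm_z hsQ, hsy⟩⟩).2, ⟨⟨s, mem_C0.mpr ⟨H.comm_z hsQ, hsy⟩⟩, hsQ, Subtype.ext rfl⟩⟩, fun h => hsz ?_⟩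
    exact inv_mul_eq_one.mp (D.eq_one_of_mem (heq _ _ h) (mul_mem (inv_mem hsQ) H.zmem))
  refine ⟨zb, H₁, H₂, Qb, fun _ => rfl, hzo, hJ, hn₁, hn₂, iso_sl23 R1, iso_sl23 R2, hmeet, hQbn, hQeq, hF,
    hfus, hcardC, ?_⟩
  -- two conjugates of `Qb`
  intro g hg hgz
  obtain ⟨c, rfl⟩ := hπ g
  obtain ⟨q, hq, hqe⟩ := (hQmem _).mp hg
  have hm := heq q (c * zC * c⁻¹) (by rw [hqe, map_mul, map_mul, map_inv])
  set w := (q : G)⁻¹ * ((c * zC * c⁻¹ : Subgroup.centralizer ({y} : Set G)) : G) with hw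
  set u := (c : G) * z * (c : G)⁻¹ with hu
  have huw : u = (q : G) * w := by rw [hw, hu]; simp [zC, mul_assoc]
  have huQ : u = q := by
    have hqw : Commute (q : G) w := by
      obtain ⟨k, hk⟩ := hm
      rw [← hk]
      exact (hyc.mp q.2).zpow_right k
    have hu2 : u * u = 1 := by
      rw [hu, show (c : G) * z * (c : G)⁻¹ * ((c : G) * z * (c : G)⁻¹) = c * (z * z) * (c : G)⁻¹ by
        group, H.zz]
      group
    rw [huw, hqw.symm.mul_mul_mul_comm] at hu2
    have hww : w * w ∈ Q := by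
      rw [eq_inv_of_mul_eq_one_right hu2]
      exact inv_mem (mul_mem hq hq)
    have h1 := D.eq_one_of_mem (mul_mem hm hm) hww
    rw [huw, D.eq_one_of_sq hm h1, mul_one]
  have huQ' : u ∈ Q := huQ ▸ hq
  have huy : Commute u y := huQ ▸ hyc.mp q.2
  have huz : u ≠ z := by
    intro h
    refine hgz ?_
    rw [← hqe]
    exact congrArg π (Subtype.ext (huQ.symm.trans h))
  have hu1 : u ≠ 1 := fun h => H.z_ne (conj_eq_one_iff.mp h)
  have hu0 : co u ≠ 0 := fun h => (H.ker u huQ' h).elim hu1 huz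
  have huq : qb (co u) = false := (H.sq_one huQ').mp (by
    rw [hu, show (c : G) * z * (c : G)⁻¹ * ((c : G) * z * (c : G)⁻¹) = c * (z * z) * (c : G)⁻¹ by
      group, H.zz]
    group)
  obtain ⟨u0, hu0Q, hu01⟩ := H.surj 1 (by norm_num)
  obtain ⟨d, hd, hdu⟩ := H.sing_trans huQ' hu0Q hu0 (by rw [hu01]; decide) huq (by rw [hu01]; rfl)
  have H' := data_conj H hd
  have hu'1 : (fun a => co (d * a * d⁻¹)) u = 1 := by show co _ = 1; rw [hdu, hu01]
  have hlx : lxQ Q z u = Q.map (MulAut.conj (c : G)).toMonoidHom :=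
    H69.lxQ_self H.pre H.hcen (c : G)
  have hzu : z ∈ Q.map (MulAut.conj (c : G)).toMonoidHom := hlx ▸ H'.z_mem_Qs huQ' hu'1
  have hinter : ∀ x ∈ Q, x ∈ Q.map (MulAut.conj (c : G)).toMonoidHom →
      x = 1 ∨ x = z ∨ x = u ∨ x = u * z := fun x hx hx' =>
    H'.inter_elems huQ' hu'1 hx (hlx.symm ▸ hx')
  have huu : u ∈ Q.map (MulAut.conj (c : G)).toMonoidHom := ⟨z, H.zmem, rfl⟩
  let Qp := Qb.map (Subgroup.subtype (Subgroup.centralizer ({zb} : Set K)))
  have hmemI : ∀ k : K, k ∈ Qp ⊓ Qp.map (MulAut.conj (π c)).toMonoidHom ↔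
      ∃ x : Subgroup.centralizer ({y} : Set G), (x : G) ∈ Q ∧
        (x : G) ∈ Q.map (MulAut.conj (c : G)).toMonoidHom ∧ π x = k := by
    intro k
    constructor
    · rintro ⟨h1, k', h2, h2e⟩
      obtain ⟨x, hx, rfl⟩ := (hQmem _).mp h1
      obtain ⟨r, hr, rfl⟩ := (hQmem _).mp h2
      refine ⟨x, hx, ⟨r, hr, ?_⟩, rfl⟩
      have hm := heq x (c * r * c⁻¹) (by
        rw [map_mul, map_mul, map_inv]; exact h2e.symm)
      show (c : G) * r * (c : G)⁻¹ = x
      set w := (x : G)⁻¹ * ((c : G) * r * (c : G)⁻¹) with hw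
      have hxy : Commute (x : G) w := by
        obtain ⟨k, hk⟩ := hm
        rw [show w = y ^ k from hk.symm]
        exact (hyc.mp x.2).zpow_right k
      have e1 : ((x : G) * w) ^ 4 = 1 := by
        rw [hw, mul_inv_cancel_left, conj_pow, q_four H hr]; group
      rw [hxy.mul_pow, q_four H hx, one_mul] at e1
      have h3 := D.y_pow_eq_one (show w ∈ Subgroup.zpowers y from hm)
      rw [pow_succ, pow_three', h3, one_mul] at e1
      exact (inv_mul_eq_one.mp e1).symm
    · rintro ⟨x, hx, ⟨r, hr, hrx⟩, rfl⟩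
      refine ⟨(hQmem _).mpr ⟨x, hx, rfl⟩, ?_⟩
      have hrx' : (c : G) * r * (c : G)⁻¹ = x := hrx
      have hry : Commute r y := by
        have hcy := hyc.mp c.2
        have := (hcy.inv_left.mul_left (hyc.mp x.2)).mul_left hcy
        rwa [show (c : G)⁻¹ * x * c = r by rw [← hrx']; group] at this
      refine ⟨π ⟨r, hyc.mpr hry⟩, (hQmem _).mpr ⟨_, hr, rfl⟩, ?_⟩
      show π c * π _ * (π c)⁻¹ = π x
      rw [← map_inv, ← map_mul, ← map_mul]
      exact congrArg π (Subtype.ext hrx')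
  let e4 : Fin 4 → Subgroup.centralizer ({y} : Set G) :=
    ![1, zC, ⟨u, hyc.mpr huy⟩, ⟨u, hyc.mpr huy⟩ * zC]
  let F : Fin 4 → ↥(Qp ⊓ Qp.map (MulAut.conj (π c)).toMonoidHom) := fun i => ⟨π (e4 i), (hmemI _).mpr
    ⟨e4 i, by fin_cases i <;> simp [e4, zC, one_mem, H.zmem, huQ', mul_mem],
      by fin_cases i <;> simp only [e4, Fin.isValue] <;>
        first | exact one_mem _ | exact hzu | exact huu | exact mul_mem huu hzu, rfl⟩⟩
  have hQe : ∀ i, (e4 i : G) ∈ Q := by
    intro i; fin_cases i <;> simp [e4, zC, one_mem, H.zmem, huQ', mul_mem]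
  have hF4 : Function.Bijective F := by
    constructor
    · intro i j h
      have h' := inv_mul_eq_one.mp (D.eq_one_of_mem (heq _ _ (congrArg Subtype.val h))
        (mul_mem (inv_mem (hQe i)) (hQe j)))
      have huz1 : u * z ≠ 1 := fun h => huz (by rw [← H.z_inv]; exact eq_inv_of_mul_eq_one_left h)
      revert h'
      fin_cases i <;> fin_cases j <;>
        simp [e4, zC, H.z_ne, H.z_ne.symm, hu1, hu1.symm, huz, huz.symm, huz1, huz1.symm]
    · rintro ⟨k, hk⟩
      obtain ⟨x, hx, hx', rfl⟩ := (hmemI k).mp hk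
      rcases hinter _ hx hx' with e | e | e | e
      exacts [⟨0, Subtype.ext (congrArg π (Subtype.ext e.symm))⟩,
        ⟨1, Subtype.ext (congrArg π (Subtype.ext e.symm))⟩,
        ⟨2, Subtype.ext (congrArg π (Subtype.ext e.symm))⟩,
        ⟨3, Subtype.ext (congrArg π (Subtype.ext e.symm))⟩]
  show Nat.card ↥(Qp ⊓ Qp.map (MulAut.conj (π c)).toMonoidHom) = 4
  rw [← Nat.card_eq_of_bijective F hF4]
  simp

end YD

end H95.SuzY
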