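import Cfsg.Agent.H95.SuzY.Norm
import Cfsg.Agent.H5.SL23Section

/-!
The centraliser in `C(z)` of an element of order three acting by the standard element.
-/

set_option autoImplicit false
set_option maxRecDepth 10000

namespace H95.SuzY

open H73.Suz

variable {G : Type*} [Group G] [Finite G] {z : G} {Q : Subgroup G} {co : G → ℕ}

/-- the working hypothesis -/
structure YD (z : G) (Q : Subgroup G) (co : G → ℕ) (y : G) : Prop where
  H : Data z Q co
  y3 : y * y * y = 1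
  y_ne : y ≠ 1
  yz : Commute y z
  act : Acts Q co y g0

/-- the centraliser of `z` and `y` -/
def C0 (z y : G) : Subgroup G :=
  Subgroup.centralizer ({z} : Set G) ⊓ Subgroup.centralizer ({y} : Set G)

theorem mem_C0 {y c : G} : c ∈ C0 z y ↔ Commute c z ∧ Commute c y := by
  rw [C0, Subgroup.mem_inf, Subgroup.mem_centralizer_singleton_iff,
    Subgroup.mem_centralizer_singleton_iff]
  rfl

theorem q_four (H : Data z Q co) {q : G} (hq : q ∈ Q) : q ^ 4 = 1 := by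
  have h := H.sq q hq
  have h2 : q ^ 4 = (q * q) * (q * q) := by rw [pow_succ, pow_succ, pow_succ, pow_one]; group
  rw [h2, h]
  split
  · exact H.zz
  · exact one_mul 1

theorem acts_pow (H : Data z Q co) {c : G} {g : ℕ → ℕ} (hc : Commute c z) (hg : Acts Q co c g) :
    ∀ n, Acts Q co (c ^ n) (g^[n])
  | 0 => by rw [pow_zero]; exact H.acts_one
  | n + 1 => by
    rw [pow_succ]
    exact H.acts_congr (H.acts_mul hc (acts_pow H hc hg n) hg) fun v _ =>
      (Function.iterate_succ_apply g n v).symm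

theorem fixed_commute (H : Data z Q co) {c q : G} {g : ℕ → ℕ} (hc3 : c * c * c = 1)
    (hc : Commute c z) (hg : Acts Q co c g) (hq : q ∈ Q) (hfix : g (co q) = co q) :
    Commute c q := by
  rcases H.co_eq hq (H.nor c hc.eq q hq) (by rw [hg q hq, hfix]) with e | e
  · exact mul_inv_eq_iff_eq_mul.mp e
  · exfalso
    have hz' := H.conj_z hc
    have e3 : c * (c * (c * q * c⁻¹) * c⁻¹) * c⁻¹ = q * z := by
      rw [e, show c * (q * z) * c⁻¹ = c * q * c⁻¹ * (c * z * c⁻¹) by group, e, hz', H.mul_z_mul_z, e]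
    rw [show c * (c * (c * q * c⁻¹) * c⁻¹) * c⁻¹ = (c * c * c) * q * (c * c * c)⁻¹ by group, hc3] at e3
    simp [H.z_ne] at e3

/-- Two elements of order three with the same action are conjugate by an element of `Q`. -/
theorem exists_conj (H : Data z Q co) {t x : G} {g : ℕ → ℕ} (ht3 : t * t * t = 1)
    (hx3 : x * x * x = 1) (htz : Commute t z) (hxz : Commute x z) (hgt : Acts Q co t g)
    (hgx : Acts Q co x g) (P : ℕ → Prop)
    (hP : x * t⁻¹ ∈ Q → co (x * t⁻¹) ^^^ g (co (x * t⁻¹)) ^^^ g (g (co (x * t⁻¹))) = 0 →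
      ∃ d < 64, P d ∧ d ^^^ g d = co (x * t⁻¹)) :
    ∃ d ∈ Q, P (co d) ∧ d * t * d⁻¹ = x := by
  have hq : x * t⁻¹ ∈ Q := by
    have := H.nor t htz.eq _ (H.mem_of_acts_eq htz hxz hgt hgx)
    rwa [show t * (t⁻¹ * x) * t⁻¹ = x * t⁻¹ by group] at this
  set q := x * t⁻¹ with hqd
  have hx : x = q * t := by rw [hqd]; group
  have h0 : co q ^^^ g (co q) ^^^ g (g (co q)) = 0 := by
    have e : q * (t * q * t⁻¹) * (t * (t * q * t⁻¹) * t⁻¹) = 1 := by
      calc q * (t * q * t⁻¹) * (t * (t * q * t⁻¹) * t⁻¹)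
          = (q * t) * (q * t) * (q * t) * (t * t * t)⁻¹ := by group
        _ = 1 := by rw [← hx, hx3, ht3]; group
    have h1 := H.nor t htz.eq q hq
    have h2 := H.nor t htz.eq _ h1
    have := congrArg co e
    rwa [H.mul _ (mul_mem hq h1) _ h2, H.mul _ hq _ h1, hgt _ h1, hgt q hq, H.co_one] at this
  obtain ⟨d, hd, hPd, hdv⟩ := hP hq h0
  obtain ⟨d', hd', rfl⟩ := H.surj d hd
  refine ⟨d', hd', hPd, ?_⟩
  have h1 := H.nor t htz.eq _ (inv_mem hd')
  have hdq : co (d' * (t * d'⁻¹ * t⁻¹)) = co q := by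
    rw [H.mul _ hd' _ h1, hgt _ (inv_mem hd'), H.co_inv hd', hdv]
  rcases H.co_eq hq (mul_mem hd' h1) hdq.symm with e | e
  · rw [hx, ← e]; group
  · exfalso
    have hconj : d' * t * d'⁻¹ = x * z := by
      calc d' * t * d'⁻¹ = d' * (t * d'⁻¹ * t⁻¹) * t := by group
        _ = q * z * t := by rw [e]
        _ = q * (z * t) := by rw [mul_assoc]
        _ = q * (t * z) := by rw [htz.eq]
        _ = x * z := by rw [hx]; simp only [mul_assoc]
    have h3 : (x * z) * (x * z) * (x * z) = z := by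
      rw [← pow_three', hxz.mul_pow, pow_three', pow_three', hx3, one_mul, H.zz, one_mul]
    rw [← hconj] at h3
    rw [show d' * t * d'⁻¹ * (d' * t * d'⁻¹) * (d' * t * d'⁻¹) = d' * (t * t * t) * d'⁻¹ by group,
      ht3, mul_one, mul_inv_cancel] at h3
    exact H.z_ne h3.symm

theorem tv5_iso : IsIso (tv 5) := by
  have h : ∀ m < 64, tv 5 m < 64 ∧ qb (tv 5 m) = qb m := by decide +kernel
  have h2 : ((List.range 64).all fun m => (List.range 64).all fun n =>
      tv 5 (m ^^^ n) == tv 5 m ^^^ tv 5 n) = true := by decide +kernel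
  simp only [List.all_eq_true, List.mem_range, beq_iff_eq] at h2
  exact ⟨fun m hm => (h m hm).1, fun m hm => (h m hm).2, fun m hm n hn => h2 m hm n hn⟩

theorem pairs_span : ∀ v < 16, ∃ b1 ∈ [0, 5], ∃ b2 ∈ [0, 11], ∃ b3 ∈ [0, 7], ∃ b4 ∈ [0, 10],
    v = b1 ^^^ b2 ^^^ (b3 ^^^ b4) := by
  decide +kernel

theorem moved : ∀ u < 64, g0 u ^^^ u ∈ [0, 16, 32, 48] := by decide +kernel

theorem g0_units : g0 16 = 32 ∧ 16 = g0 16 ^^^ g0 (g0 16) ∧ ∀ v < 16, g0 v = v := by decide +kernel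

theorem rWords_letters : (rWords.all fun w => w.all fun p =>
    ([(16, 32), (5, 11), (7, 10)] : List (ℕ × ℕ)).contains p) = true := by decide +kernel

namespace YD

variable {y : G}

theorem C0_act (D : YD z Q co y) {c : G} (hc : c ∈ C0 z y) :
    ∃ g, Acts Q co c g ∧ IsIso g ∧ ∀ v < 64, g (g0 v) = g0 (g v) := by
  obtain ⟨hcz, hcy⟩ := mem_C0.mp hc
  obtain ⟨g, hg, I⟩ := D.H.exists_act hcz
  refine ⟨g, hg, I, D.H.acts_unique (D.H.acts_mul D.yz hg D.act) ?_⟩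
  rw [hcy.eq]
  exact D.H.acts_mul hcz D.act hg

theorem commute_iff_low (D : YD z Q co y) {q : G} (hq : q ∈ Q) : Commute q y ↔ co q < 16 := by
  rw [← g0_fix _ (D.H.lt q)]
  constructor
  · intro h
    rw [← D.act q hq, show y * q * y⁻¹ = q by rw [← h.eq, mul_inv_cancel_right]]
  · exact fun h => (fixed_commute D.H D.y3 D.yz D.act hq h).symm

theorem mem_low (D : YD z Q co y) {q : G} (hq : q ∈ Q) : q ∈ C0 z y ↔ co q < 16 :=
  ⟨fun h => (D.commute_iff_low hq).mp (mem_C0.mp h).2,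
    fun h => mem_C0.mpr ⟨D.H.comm_z hq, (D.commute_iff_low hq).mpr h⟩⟩

theorem word_act (D : YD z Q co y) : ∀ w : List (ℕ × ℕ),
    (∀ p ∈ w, p.1 < 64 ∧ p.2 < 64 ∧ qb p.1 = true ∧ qb p.2 = true) →
      ∃ c, Commute c z ∧ Acts Q co c (actW w) ∧ IsIso (actW w)
  | [], _ => ⟨1, Commute.one_left z, D.H.acts_one, isIso_id⟩
  | p :: w, h => by
    obtain ⟨h1, h2, h3, h4⟩ := h p List.mem_cons_self
    obtain ⟨c, hc, hg, I⟩ := exists_pair_iso D.H h1 h3 h2 h4
    obtain ⟨d, hd, hd', J⟩ := word_act D w fun q hq => h q (List.mem_cons_of_mem _ hq)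
    exact ⟨c * d, hc.mul_left hd, D.H.acts_congr (D.H.acts_mul hd hg hd') fun _ _ => rfl, I.comp J⟩

/-- An element whose action commutes with the standard one has a translate in `C0`. -/
theorem adjust (D : YD z Q co y) {c : G} {g : ℕ → ℕ} (hcz : Commute c z) (hg : Acts Q co c g)
    (hcomm : ∀ v < 64, g (g0 v) = g0 (g v)) : ∃ c' ∈ C0 z y, Acts Q co c' g := by
  obtain ⟨g', hg', -⟩ := D.H.exists_act hcz.inv_left
  have inv2 : ∀ v < 64, g (g' v) = v := fun v hv =>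
    D.H.acts_unique (D.H.acts_mul hcz.inv_left hg hg') (by rw [mul_inv_cancel]; exact D.H.acts_one) v hv
  have hxz : Commute (c * y * c⁻¹) z := (hcz.mul_left D.yz).mul_left hcz.inv_left
  have hact : Acts Q co (c * y * c⁻¹) g0 :=
    D.H.acts_congr (D.H.acts_mul hcz.inv_left (D.H.acts_mul D.yz hg D.act) hg') fun v hv => by
      have hv' : g' v < 64 := by
        obtain ⟨q, hq, e⟩ := D.H.surj v hv
        rw [← e, ← hg' q hq]; exact D.H.lt _
      rw [hcomm _ hv', inv2 v hv]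
  obtain ⟨d, hd, -, hdy⟩ := exists_conj D.H D.y3
    (by rw [show c * y * c⁻¹ * (c * y * c⁻¹) * (c * y * c⁻¹) = c * (y * y * y) * c⁻¹ by group,
      D.y3]; group) D.yz hxz D.act hact (fun _ => True)
    (fun _ h0 => by
      obtain ⟨d, hd, hdv⟩ := lift_zero _ (D.H.lt _) h0
      exact ⟨d, hd, trivial, hdv⟩)
  refine ⟨d⁻¹ * c, mem_C0.mpr ⟨(D.H.comm_z hd).inv_left.mul_left hcz, ?_⟩,
    D.H.acts_congr (D.H.acts_mul hcz (D.H.acts_mem (inv_mem hd)) hg) fun _ _ => rfl⟩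
  show d⁻¹ * c * y = y * (d⁻¹ * c)
  calc d⁻¹ * c * y = d⁻¹ * (c * y * c⁻¹) * c := by group
    _ = d⁻¹ * (d * y * d⁻¹) * c := by rw [hdy]
    _ = y * (d⁻¹ * c) := by group

theorem cWord_lift (D : YD z Q co y) {w : List (ℕ × ℕ)} (hw : w ∈ cWords) :
    ∃ c ∈ C0 z y, Acts Q co c (actW w) ∧ IsIso (actW w) := by
  have hok := List.all_eq_true.mp cWords_ok w hw
  simp only [List.all_eq_true, Bool.and_eq_true, decide_eq_true_eq] at hok
  obtain ⟨c, hc, hg, I⟩ := D.word_act w fun p hp => ⟨(hok p hp).1.1.1, (hok p hp).1.1.2, (hok p hp).1.2, (hok p hp).2⟩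
  have hcm := List.all_eq_true.mp cWords_comm w hw
  simp only [List.all_eq_true, beq_iff_eq] at hcm
  have J0 : IsIso g0 := (exists_pair_iso D.H (by norm_num) (by rfl) (by norm_num) (by rfl)).elim
    fun _ p => p.2.2
  obtain ⟨c', hc', hg'⟩ := D.adjust hc hg (ext64 (I.comp J0) (J0.comp I) hcm)
  exact ⟨c', hc', hg', I⟩

/-- Every element of `C0` acts as one of the listed words. -/
theorem exists_word (D : YD z Q co y) {c : G} (hc : c ∈ C0 z y) :
    ∃ w ∈ cWords, Acts Q co c (actW w) := by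
  obtain ⟨g, hg, I, hcomm⟩ := D.C0_act hc
  have hlow : ∀ v < 16, g v < 16 := fun v hv =>
    (g0_fix _ (I.lt v (by omega))).mp (by rw [← hcomm v (by omega), g0_units.2.2 v hv])
  have hne : ∀ v < 64, v ≠ 0 → g v ≠ 0 := by
    intro v hv hv0 h
    obtain ⟨n, hn, hB⟩ := Bb_nondeg v hv hv0
    rw [← I.map_B hv hn, h, Bb_zero_left] at hB
    simp at hB
  have h16 : g 16 = 16 ∨ g 16 = 32 ∨ g 16 = 48 := by
    have h1 : g0 16 < 64 := by decide
    have e : g 16 = g0 (g (g0 16)) ^^^ g (g0 16) := by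
      conv_lhs => rw [g0_units.2.1]
      rw [I.add _ h1 _ (g0_lt _ h1).1, hcomm _ h1, Nat.xor_comm]
    have h2 := moved _ (I.lt _ h1)
    rw [← e] at h2
    simp only [List.mem_cons, List.not_mem_nil, or_false] at h2
    exact h2.resolve_left (hne 16 (by norm_num) (by norm_num))
  have fq : ∀ m, m < 64 → qb (g m) = qb m := I.form
  have fB : ∀ m n, m < 64 → n < 64 → Bb (g m) (g n) = Bb m n := fun m n => I.map_B
  have hcl := classify (hlow 1 (by norm_num)) (hlow 2 (by norm_num)) (hlow 4 (by norm_num))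
    (hlow 8 (by norm_num)) (hne 1 (by norm_num) (by norm_num))
    (by rw [fq 1 (by norm_num)]; rfl) (by rw [fq 4 (by norm_num)]; rfl)
    (by rw [fB 1 4 (by norm_num) (by norm_num)]; rfl) (hne 2 (by norm_num) (by norm_num))
    (by rw [fq 2 (by norm_num)]; rfl) (by rw [fB 1 2 (by norm_num) (by norm_num)]; rfl)
    (by rw [fB 4 2 (by norm_num) (by norm_num)]; rfl) (by rw [fq 8 (by norm_num)]; rfl)
    (by rw [fB 1 8 (by norm_num) (by norm_num)]; rfl) (by rw [fB 4 8 (by norm_num) (by norm_num)]; rfl)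
    (by rw [fB 2 8 (by norm_num) (by norm_num)]; rfl) h16
  have h32 : g 32 = g0 (g 16) := by rw [← hcomm 16 (by norm_num), g0_units.1]
  rcases hcl with hmem | hmem
  · rw [← cKeys_eq, List.mem_map] at hmem
    obtain ⟨w, hw, hk⟩ := hmem
    obtain ⟨c', hc', hg', J⟩ := D.cWord_lift hw
    refine ⟨w, hw, D.H.acts_congr hg (ext64 I J fun v hv => ?_)⟩
    have hw32 : actW w 32 = g0 (actW w 16) := by
      have := List.all_eq_true.mp (List.all_eq_true.mp cWords_comm w hw) 16 (by simp)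
      rw [beq_iff_eq, g0_units.1] at this
      exact this
    simp only [key, Prod.mk.injEq] at hk
    simp only [List.mem_cons, List.not_mem_nil, or_false] at hv
    rcases hv with rfl | rfl | rfl | rfl | rfl | rfl
    exacts [hk.1.symm, hk.2.1.symm, hk.2.2.1.symm, hk.2.2.2.1.symm, hk.2.2.2.2.symm,
      by rw [h32, hw32, hk.2.2.2.2]]
  · exfalso
    rw [← cKeys_eq, List.mem_map] at hmem
    obtain ⟨w, hw, hk⟩ := hmem
    obtain ⟨c', hc', hg', J⟩ := D.cWord_lift hw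
    simp only [key, Prod.mk.injEq] at hk
    have hw32 : actW w 32 = g0 (actW w 16) := by
      have := List.all_eq_true.mp (List.all_eq_true.mp cWords_comm w hw) 16 (by simp)
      rw [beq_iff_eq, g0_units.1] at this
      exact this
    have hgw : ∀ v < 64, g v = actW w (tv 5 v) := by
      refine ext64 I (J.comp tv5_iso) fun v hv => ?_
      simp only [List.mem_cons, List.not_mem_nil, or_false] at hv
      rcases hv with rfl | rfl | rfl | rfl | rfl | rfl
      · rw [tv_five.1, hk.2.2.1]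
      · rw [tv_five.2.1, hk.2.1]
      · rw [tv_five.2.2.1, hk.1]
      · rw [tv_five.2.2.2.1, hk.2.2.2.1]
      · rw [tv_five.2.2.2.2.1, hk.2.2.2.2]
      · rw [tv_five.2.2.2.2.2, h32, hw32, hk.2.2.2.2]
    obtain ⟨hcz, -⟩ := mem_C0.mp hc
    obtain ⟨hcz', -⟩ := mem_C0.mp hc'
    obtain ⟨g', hg'', -⟩ := D.H.exists_act hcz'.inv_left
    have inv1 : ∀ v < 64, g' (actW w v) = v := fun v hv =>
      D.H.acts_unique (D.H.acts_mul hcz' hg'' hg') (by rw [inv_mul_cancel]; exact D.H.acts_one) v hv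
    have hd : Acts Q co (c'⁻¹ * c) (tv 5) :=
      D.H.acts_congr (D.H.acts_mul hcz hg'' hg) fun v hv => by
        rw [hgw v hv, inv1 _ (tv5_iso.lt v hv)]
    set d := c'⁻¹ * c
    have hdz : Commute d z := hcz'.inv_left.mul_left hcz
    have hdQ : d ∉ Q := fun h => by
      have := D.H.acts_unique hd (D.H.acts_mem h) 1 (by norm_num)
      rw [tv_five.1] at this
      simp at this
    have hd2 : d * d ∈ Q := D.H.faithful _ (hdz.mul_left hdz) (D.H.acts_congr
      (D.H.acts_mul hdz hd hd) fun v hv => by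
        have := ext64 (tv5_iso.comp tv5_iso) isIso_id (by
          intro u hu
          revert hu u; decide) v hv
        exact this)
    obtain ⟨s, hs, hs0, hsq, -, hmove⟩ := D.H.axis d hdz hdQ hd2
    obtain ⟨v, hv, hvs, hv5⟩ := no_transvection s hs hs0 hsq
    obtain ⟨q, hq, rfl⟩ := D.H.surj v hv
    have e : tv 5 (co q) = co q ^^^ 5 := by rw [tv, if_pos hv5]
    rcases hmove q hq hvs with h | h <;> rw [hd q hq, e] at h
    · have := congrArg (co q ^^^ ·) h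
      simp [← Nat.xor_assoc] at this
    · have := congrArg (co q ^^^ ·) h
      simp only [← Nat.xor_assoc, Nat.xor_self, Nat.zero_xor] at this
      rw [← this] at hsq
      exact Bool.noConfusion hsq

theorem card_low (D : YD z Q co y) : Nat.card (Q ⊓ C0 z y : Subgroup G) = 32 := by
  classical
  have hrep : ∀ v : Fin 16, ∃ q ∈ Q, co q = v.val := fun v => D.H.surj v (by omega)
  choose f hf hfv using hrep
  let F : Bool × Fin 16 → (Q ⊓ C0 z y : Subgroup G) := fun p =>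
    ⟨if p.1 then f p.2 * z else f p.2, by
      have hmem : ∀ q ∈ Q, co q < 16 → q ∈ Q ⊓ C0 z y := fun q hq h => ⟨hq, (D.mem_low hq).mpr h⟩
      split
      · exact hmem _ (mul_mem (hf _) D.H.zmem) (by rw [D.H.co_mul_z (hf _), hfv]; omega)
      · exact hmem _ (hf _) (by rw [hfv]; omega)⟩
  have hF : Function.Bijective F := by
    constructor
    · rintro ⟨a, u⟩ ⟨b, v⟩ h
      have h' := congrArg Subtype.val h
      simp only [F] at h'
      have huv : u = v := by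
        have := congrArg co h'
        refine Fin.ext ?_
        cases a <;> cases b <;> simpa [D.H.co_mul_z (hf _), hfv] using this
      subst huv
      cases a <;> cases b <;> simp [D.H.z_ne] at h' ⊢
    · rintro ⟨q, hq, hq'⟩
      have hv := (D.mem_low hq).mp hq'
      rcases D.H.co_eq (hf ⟨_, hv⟩) hq (hfv ⟨_, hv⟩) with e | e
      · exact ⟨(false, ⟨_, hv⟩), Subtype.ext e.symm⟩
      · exact ⟨(true, ⟨_, hv⟩), Subtype.ext e.symm⟩
  rw [← Nat.card_eq_of_bijective F hF]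
  simp

theorem card_C0 (D : YD z Q co y) : Nat.card (C0 z y) = 3456 := by
  classical
  have hl : cWords.length = 108 := by
    rw [← cKeys_length, ← cKeys_eq, List.length_map]
  have hrep : ∀ i : Fin cWords.length, ∃ c ∈ C0 z y, Acts Q co c (actW cWords[i.val]) ∧
      IsIso (actW cWords[i.val]) := fun i => D.cWord_lift (List.getElem_mem i.isLt)
  choose f hf hfa _hfi using hrep
  let F : Fin cWords.length × (Q ⊓ C0 z y : Subgroup G) → C0 z y := fun p =>
    ⟨f p.1 * p.2, (C0 z y).mul_mem (hf _) p.2.2.2⟩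
  have hF : Function.Bijective F := by
    constructor
    · rintro ⟨i, q⟩ ⟨j, r⟩ h
      have h' : f i * (q : G) = f j * r := congrArg Subtype.val h
      have hij : i = j := by
        have e : ∀ v < 64, actW cWords[i.val] v = actW cWords[j.val] v := by
          have h1 := D.H.acts_mul (D.H.comm_z q.2.1) (hfa i) (D.H.acts_mem q.2.1)
          have h2 := D.H.acts_mul (D.H.comm_z r.2.1) (hfa j) (D.H.acts_mem r.2.1)
          rw [← h'] at h2
          exact D.H.acts_unique h1 h2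
        have hk : cKeys[i.val]'(by rw [cKeys_length, ← hl]; exact i.isLt) =
            cKeys[j.val]'(by rw [cKeys_length, ← hl]; exact j.isLt) := by
          simp only [← cKeys_eq, List.getElem_map, key]
          rw [e 1 (by norm_num), e 2 (by norm_num), e 4 (by norm_num), e 8 (by norm_num), e 16 (by norm_num)]
        exact Fin.ext ((cKeys_nodup.getElem_inj_iff).mp hk)
      subst hij
      exact Prod.ext rfl (Subtype.ext (mul_left_cancel h'))
    · rintro ⟨c, hc⟩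
      obtain ⟨w, hw, hg⟩ := D.exists_word hc
      obtain ⟨i, hi, rfl⟩ := List.getElem_of_mem hw
      exact ⟨(⟨i, hi⟩, ⟨(f ⟨i, hi⟩)⁻¹ * c, D.H.mem_of_acts_eq (mem_C0.mp (hf _)).1
        (mem_C0.mp hc).1 (hfa _) hg, (C0 z y).mul_mem ((C0 z y).inv_mem (hf _)) hc⟩), Subtype.ext (mul_inv_cancel_left _ _)⟩
  rw [← Nat.card_eq_of_bijective F hF, Nat.card_prod, D.card_low, Nat.card_fin, hl]

end YD

/-- generators of the two quaternion-by-three factors -/
structure Gens (z : G) (Q : Subgroup G) (co : G → ℕ) (y t1 t2 a1 a2 : G) : Prop where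
  m1 : t1 ∈ C0 z y
  m2 : t2 ∈ C0 z y
  o1 : t1 * t1 * t1 = 1
  o2 : t2 * t2 * t2 = 1
  act1 : Acts Q co t1 g1
  act2 : Acts Q co t2 g2
  tt : Commute t1 t2
  q1 : a1 ∈ Q
  q2 : a2 ∈ Q
  c1 : co a1 = 5
  c2 : co a2 = 7
  sign1 : t1 * (t1 * a1 * t1⁻¹) * t1⁻¹ = a1 * (t1 * a1 * t1⁻¹)
  sign2 : t2 * (t2 * a2 * t2⁻¹) * t2⁻¹ = a2 * (t2 * a2 * t2⁻¹)

namespace YD

variable {y : G}

theorem order_three_lift (D : YD z Q co y) {c : G} {g : ℕ → ℕ} (hc : c ∈ C0 z y)
    (hg : Acts Q co c g) (h3 : ∀ v < 64, g (g (g v)) = v) :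
    (c ^ 4) * (c ^ 4) * (c ^ 4) = 1 ∧ Acts Q co (c ^ 4) g ∧ c ^ 4 ∈ C0 z y := by
  obtain ⟨hcz, -⟩ := mem_C0.mp hc
  have hQ : c ^ 3 ∈ Q := D.H.faithful _ (hcz.pow_left 3)
    (D.H.acts_congr (acts_pow D.H hcz hg 3) fun v hv => h3 v hv)
  refine ⟨?_, D.H.acts_congr (acts_pow D.H hcz hg 4) fun v hv => ?_, pow_mem hc 4⟩
  · rw [← pow_add, ← pow_add, show 4 + 4 + 4 = 3 * 4 from rfl, pow_mul]
    exact q_four D.H hQ
  · obtain ⟨q, hq, rfl⟩ := D.H.surj v hv
    show g (g (g (g (co q)))) = g (co q)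
    rw [h3 (g (co q)) (by rw [← hg q hq]; exact D.H.lt _)]

theorem exists_gens (D : YD z Q co y) : ∃ t1 t2 a1 a2, Gens z Q co y t1 t2 a1 a2 := by
  have J0 : IsIso g0 := (exists_pair_iso D.H (by norm_num) (by rfl) (by norm_num) (by rfl)).elim
    fun _ p => p.2.2
  obtain ⟨u, hu, hug, -⟩ := exists_pair_iso D.H (a := 5) (b := 11) (by norm_num) (by rfl) (by norm_num) (by rfl)
  obtain ⟨c1, hc1, hc1g⟩ := D.adjust hu hug fun v hv => ((g_comm v hv).1).symm
  obtain ⟨o1, a1g, m1⟩ := D.order_three_lift hc1 hc1g fun v hv => (g_cube v hv).2.1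
  set t1 := c1 ^ 4
  obtain ⟨u2, hu2, hu2g, -⟩ := exists_pair_iso D.H (a := 7) (b := 10) (by norm_num) (by rfl) (by norm_num) (by rfl)
  obtain ⟨c2, hc2, hc2g⟩ := D.adjust hu2 hu2g fun v hv => ((g_comm v hv).2.1).symm
  obtain ⟨hc2z, hc2y⟩ := mem_C0.mp hc2
  obtain ⟨ht1z, ht1y⟩ := mem_C0.mp m1
  obtain ⟨g', hg', -⟩ := D.H.exists_act hc2z.inv_left
  have inv2 : ∀ v < 64, g2 (g' v) = v := fun v hv =>
    D.H.acts_unique (D.H.acts_mul hc2z.inv_left hc2g hg') (by rw [mul_inv_cancel]; exact D.H.acts_one) v hv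
  have hxm : c2 * t1 * c2⁻¹ ∈ C0 z y := mul_mem (mul_mem hc2 m1) (inv_mem hc2)
  have hact : Acts Q co (c2 * t1 * c2⁻¹) g1 :=
    D.H.acts_congr (D.H.acts_mul hc2z.inv_left (D.H.acts_mul ht1z hc2g a1g) hg') fun v hv => by
      have hv' : g' v < 64 := by
        obtain ⟨q, hq, e⟩ := D.H.surj v hv
        rw [← e, ← hg' q hq]; exact D.H.lt _
      show g2 (g1 (g' v)) = g1 v
      rw [← (g_comm _ hv').2.2, inv2 v hv]
  obtain ⟨d, hd, hd16, hdt⟩ := exists_conj D.H o1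
    (by rw [show c2 * t1 * c2⁻¹ * (c2 * t1 * c2⁻¹) * (c2 * t1 * c2⁻¹) = c2 * (t1 * t1 * t1) * c2⁻¹
      by group, o1]; group) ht1z (mem_C0.mp hxm).1 a1g hact (fun v => v < 16)
    (fun hm h0 => lift_one _ ((D.mem_low hm).mp (mul_mem hxm (inv_mem m1))) h0)
  have hd0 : d ∈ C0 z y := (D.mem_low hd).mpr hd16
  have hc2' : d⁻¹ * c2 ∈ C0 z y := mul_mem (inv_mem hd0) hc2
  have hact2 : Acts Q co (d⁻¹ * c2) g2 :=
    D.H.acts_congr (D.H.acts_mul hc2z (D.H.acts_mem (inv_mem hd)) hc2g) fun _ _ => rfl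
  have htc : Commute (d⁻¹ * c2) t1 := by
    show d⁻¹ * c2 * t1 = t1 * (d⁻¹ * c2)
    calc d⁻¹ * c2 * t1 = d⁻¹ * (c2 * t1 * c2⁻¹) * c2 := by group
      _ = d⁻¹ * (d * t1 * d⁻¹) * c2 := by rw [hdt]
      _ = t1 * (d⁻¹ * c2) := by group
  obtain ⟨o2, a2g, m2⟩ := D.order_three_lift hc2' hact2 fun v hv => (g_cube v hv).2.2
  set t2 := (d⁻¹ * c2) ^ 4
  have htt : Commute t1 t2 := (htc.pow_left 4).symm
  have key : ∀ (t : G) (g : ℕ → ℕ) (n m : ℕ), n < 64 → t ∈ C0 z y → Acts Q co t g →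
      g n = m → g m = n ^^^ m → ∃ a ∈ Q, co a = n ∧
        t * (t * a * t⁻¹) * t⁻¹ = a * (t * a * t⁻¹) := by
    intro t g n m hn htm htg h1 h2
    obtain ⟨a, ha, han⟩ := D.H.surj n hn
    obtain ⟨htz, -⟩ := mem_C0.mp htm
    have hb := D.H.nor t htz.eq a ha
    have hc := D.H.nor t htz.eq _ hb
    rcases D.H.co_eq (mul_mem ha hb) hc (by rw [D.H.mul a ha _ hb, htg _ hb, htg a ha, han, h1, h2])
      with e | e
    · exact ⟨a, ha, han, e⟩
    · refine ⟨a * z, mul_mem ha D.H.zmem, by rw [D.H.co_mul_z ha, han], ?_⟩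
      have haz : Commute z (t * a * t⁻¹) := (D.H.comm_z hb).symm
      rw [show t * (t * (a * z) * t⁻¹) * t⁻¹ = t * (t * a * t⁻¹) * t⁻¹ * (t * (t * z * t⁻¹) * t⁻¹) by group,
        D.H.conj_z htz, D.H.conj_z htz, e,
        show t * (a * z) * t⁻¹ = t * a * t⁻¹ * (t * z * t⁻¹) by group, D.H.conj_z htz]
      rw [mul_assoc a z, ← mul_assoc z, haz.eq]
      simp only [mul_assoc]
  obtain ⟨a1, ha1, hco1, hs1⟩ := key t1 g1 5 11 (by norm_num) m1 a1g (by decide) (by decide)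
  obtain ⟨a2, ha2, hco2, hs2⟩ := key t2 g2 7 10 (by norm_num) m2 a2g (by decide) (by decide)
  exact ⟨t1, t2, a1, a2, ⟨m1, m2, o1, o2, a1g, a2g, htt, ha1, ha2, hco1, hco2, hs1, hs2⟩⟩

variable {t1 t2 a1 a2 : G}

theorem gen_facts (D : YD z Q co y) (Γ : Gens z Q co y t1 t2 a1 a2) :
    (a1 ∈ C0 z y ∧ a2 ∈ C0 z y) ∧
    (Commute a1 a2 ∧ Commute t1 a2 ∧ Commute t2 a1) ∧
    H5.SL23Rel a1 t1 ∧ H5.SL23Rel a2 t2 := by
  refine ⟨⟨(D.mem_low Γ.q1).mpr (by rw [Γ.c1]; norm_num), (D.mem_low Γ.q2).mpr (by rw [Γ.c2]; norm_num)⟩,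
    ⟨(D.H.commute_iff Γ.q1 Γ.q2).mpr (by rw [Γ.c1, Γ.c2]; rfl),
      fixed_commute D.H Γ.o1 (mem_C0.mp Γ.m1).1 Γ.act1 Γ.q2 (by rw [Γ.c2]; decide),
      fixed_commute D.H Γ.o2 (mem_C0.mp Γ.m2).1 Γ.act2 Γ.q1 (by rw [Γ.c1]; decide)⟩, ?_, ?_⟩
  all_goals
    first
    | (refine rel_of D ?_ Γ.o1 Γ.act1 Γ.q1 (n := 5) ?_ ?_ ?_ Γ.sign1 <;>
        first | exact (mem_C0.mp Γ.m1).1 | exact Γ.c1 | decide)
    | (refine rel_of D ?_ Γ.o2 Γ.act2 Γ.q2 (n := 7) ?_ ?_ ?_ Γ.sign2 <;>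
        first | exact (mem_C0.mp Γ.m2).1 | exact Γ.c2 | decide)
where
  rel_of {t a : G} {g : ℕ → ℕ} {n : ℕ} (D : YD z Q co y) (htz : Commute t z)
      (ht3 : t * t * t = 1) (hg : Acts Q co t g) (ha : a ∈ Q) (hn : co a = n) (hq : qb n = true)
      (hB : Bb (g n) n = true) (hs : t * (t * a * t⁻¹) * t⁻¹ = a * (t * a * t⁻¹)) :
      H5.SL23Rel a t := by
    set b := t * a * t⁻¹ with hb
    have hbQ : b ∈ Q := D.H.nor t htz.eq a ha
    have hbn : co b = g n := by rw [hb, hg a ha, hn]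
    have haz : a * a = z := D.H.sq_z ha (by rw [hn]; exact hq)
    have hbz : b * b = z := by
      rw [hb, show t * a * t⁻¹ * (t * a * t⁻¹) = t * (a * a) * t⁻¹ by group, haz, D.H.conj_z htz]
    have hnc : ¬ Commute b a := fun h => by
      have := (D.H.commute_iff hbQ ha).mp h
      rw [hbn, hn, hB] at this
      simp at this
    refine ⟨?_, ?_, ?_, ?_, ?_, hs⟩
    · rw [show (4 : ℕ) = 2 ^ (1 + 1) from rfl]
      refine orderOf_eq_prime_pow ?_ ?_
      · rw [pow_one, sq, haz]; exact D.H.z_ne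
      · exact q_four D.H ha
    · refine orderOf_eq_prime (by rw [pow_three', ht3]) fun h => hnc ?_
      rw [hb, h]; simp
    · intro h
      obtain ⟨k, hk⟩ := h
      refine hnc ?_
      show Commute (t * a * t⁻¹) a
      rw [← hk]
      exact (Commute.refl a).zpow_left k
    · exact hbz.trans haz.symm
    · rw [D.H.flip hbQ ha (by rw [hbn, hn]; exact hB), D.H.inv_of_q ha (by rw [hn]; exact hq)]

theorem rclosure_le (D : YD z Q co y) (Γ : Gens z Q co y t1 t2 a1 a2) :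
    Subgroup.closure ({y, t1, t2} : Set G) ≤ C0 z y := by
  rw [Subgroup.closure_le]
  rintro x (rfl | rfl | rfl)
  exacts [mem_C0.mpr ⟨D.yz, Commute.refl _⟩, Γ.m1, Γ.m2]

theorem rWord_lift (D : YD z Q co y) (Γ : Gens z Q co y t1 t2 a1 a2) {w : List (ℕ × ℕ)}
    (hw : w ∈ rWords) :
    ∃ r ∈ Subgroup.closure ({y, t1, t2} : Set G), Acts Q co r (actW w) := by
  have hl := List.all_eq_true.mp rWords_letters w hw
  simp only [List.all_eq_true, List.contains_iff_mem, List.mem_cons, List.not_mem_nil, or_false] at hl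
  clear hw
  induction w with
  | nil => exact ⟨1, one_mem _, D.H.acts_one⟩
  | cons p w ih =>
    obtain ⟨r, hr, hra⟩ := ih fun q hq => hl q (List.mem_cons_of_mem _ hq)
    have hrz := (mem_C0.mp (D.rclosure_le Γ hr)).1
    rcases hl p List.mem_cons_self with rfl | rfl | rfl
    · exact ⟨y * r, mul_mem (Subgroup.subset_closure (by simp)) hr, D.H.acts_congr (D.H.acts_mul hrz D.act hra) fun _ _ => rfl⟩
    · exact ⟨t1 * r, mul_mem (Subgroup.subset_closure (by simp)) hr, D.H.acts_congr (D.H.acts_mul hrz Γ.act1 hra) fun _ _ => rfl⟩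
    · exact ⟨t2 * r, mul_mem (Subgroup.subset_closure (by simp)) hr, D.H.acts_congr (D.H.acts_mul hrz Γ.act2 hra) fun _ _ => rfl⟩

/-- The elements of odd order. -/
theorem odd_mem (D : YD z Q co y) (Γ : Gens z Q co y t1 t2 a1 a2) {c : G} (hc : c ∈ C0 z y)
    (hodd : Odd (orderOf c)) :
    ∃ r ∈ Subgroup.closure ({y, t1, t2} : Set G), ∃ q ∈ Q ⊓ C0 z y, c = r * q := by
  obtain ⟨w, hw, hg⟩ := D.exists_word hc
  have h27 : c ^ 27 = 1 := by
    refine orderOf_dvd_iff_pow_eq_one.mp ?_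
    have h1 : orderOf c ∣ 2 ^ 7 * 27 := by
      have := Subgroup.orderOf_dvd_natCard (C0 z y) hc
      rw [D.card_C0] at this
      exact this
    exact (Nat.Coprime.dvd_of_dvd_mul_left
      (Nat.Coprime.pow_right 7 (Nat.coprime_two_right.mpr hodd)) h1)
  have hit : ∀ v < 64, (actW w)^[27] v = v :=
    D.H.acts_unique (acts_pow D.H (mem_C0.mp hc).1 hg 27) (by rw [h27]; exact D.H.acts_one)
  have hR : w ∈ rWords := by
    have h := List.all_eq_true.mp odd_words w hw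
    have hall : ([1, 2, 4, 8, 16].all fun v => Nat.iterate (actW w) 27 v == v) = true := by
      simp only [List.all_eq_true, beq_iff_eq]
      intro v hv
      exact hit v (by simp only [List.mem_cons, List.not_mem_nil, or_false] at hv; omega)
    rw [hall] at h
    simpa using h
  obtain ⟨r, hr, hra⟩ := D.rWord_lift Γ hR
  refine ⟨r, hr, r⁻¹ * c, ⟨?_, (C0 z y).mul_mem ((C0 z y).inv_mem (D.rclosure_le Γ hr)) hc⟩,
    (mul_inv_cancel_left r c).symm⟩
  exact D.H.mem_of_acts_eq (mem_C0.mp (D.rclosure_le Γ hr)).1 (mem_C0.mp hc).1 hra hg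

theorem low_mem (D : YD z Q co y) (Γ : Gens z Q co y t1 t2 a1 a2) :
    Q ⊓ C0 z y ≤ Subgroup.closure ({a1, t1, a2, t2} : Set G) := by
  set K := Subgroup.closure ({a1, t1, a2, t2} : Set G)
  have ka1 : a1 ∈ K := Subgroup.subset_closure (by simp)
  have ka2 : a2 ∈ K := Subgroup.subset_closure (by simp)
  have kt1 : t1 ∈ K := Subgroup.subset_closure (by simp)
  have kt2 : t2 ∈ K := Subgroup.subset_closure (by simp)
  have hb1 : t1 * a1 * t1⁻¹ ∈ K ∧ t1 * a1 * t1⁻¹ ∈ Q ∧ co (t1 * a1 * t1⁻¹) = 11 :=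
    ⟨mul_mem (mul_mem kt1 ka1) (inv_mem kt1), D.H.nor t1 (mem_C0.mp Γ.m1).1.eq _ Γ.q1,
      by rw [Γ.act1 _ Γ.q1, Γ.c1]; decide⟩
  have hb2 : t2 * a2 * t2⁻¹ ∈ K ∧ t2 * a2 * t2⁻¹ ∈ Q ∧ co (t2 * a2 * t2⁻¹) = 10 :=
    ⟨mul_mem (mul_mem kt2 ka2) (inv_mem kt2), D.H.nor t2 (mem_C0.mp Γ.m2).1.eq _ Γ.q2,
      by rw [Γ.act2 _ Γ.q2, Γ.c2]; decide⟩
  have hz : z ∈ K := by
    rw [← D.H.sq_z Γ.q1 (by rw [Γ.c1]; rfl)]
    exact mul_mem ka1 ka1
  intro q hq
  obtain ⟨hqQ, hq0⟩ := hq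
  obtain ⟨b1, h1, b2, h2, b3, h3, b4, h4, e⟩ := pairs_span _ ((D.mem_low hqQ).mp hq0)
  have pick : ∀ (x : G) (n b : ℕ), x ∈ K → x ∈ Q → co x = n → b ∈ [0, n] →
      ∃ x' ∈ K, x' ∈ Q ∧ co x' = b := by
    intro x n b hxK hxQ hxn hb
    simp only [List.mem_cons, List.not_mem_nil, or_false] at hb
    rcases hb with rfl | rfl
    exacts [⟨1, one_mem _, one_mem _, D.H.co_one⟩, ⟨x, hxK, hxQ, hxn⟩]
  obtain ⟨x1, k1, q1, e1⟩ := pick a1 5 b1 ka1 Γ.q1 Γ.c1 h1
  obtain ⟨x2, k2, q2, e2⟩ := pick _ 11 b2 hb1.1 hb1.2.1 hb1.2.2 h2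
  obtain ⟨x3, k3, q3, e3⟩ := pick a2 7 b3 ka2 Γ.q2 Γ.c2 h3
  obtain ⟨x4, k4, q4, e4⟩ := pick _ 10 b4 hb2.1 hb2.2.1 hb2.2.2 h4
  have hm : x1 * x2 * (x3 * x4) ∈ Q := mul_mem (mul_mem q1 q2) (mul_mem q3 q4)
  have hmK : x1 * x2 * (x3 * x4) ∈ K := mul_mem (mul_mem k1 k2) (mul_mem k3 k4)
  rcases D.H.co_eq hm hqQ (by rw [D.H.mul _ (mul_mem q1 q2) _ (mul_mem q3 q4), D.H.mul _ q1 _ q2,
    D.H.mul _ q3 _ q4, e1, e2, e3, e4, e]) with h | h
  · rw [h]; exact hmK
  · rw [h]; exact mul_mem hmK hz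

/-- The centraliser of the fixed part of `Q`. -/
theorem centralizes_low (D : YD z Q co y) {x : G} (hx : x ∈ C0 z y)
    (hc : ∀ q ∈ Q ⊓ C0 z y, Commute x q) :
    ∃ k : ℕ, x = y ^ k ∨ x = y ^ k * z := by
  obtain ⟨w, hw, hg⟩ := D.exists_word hx
  have hfix : ([1, 2, 4, 8].all fun v => actW w v == v) = true := by
    simp only [List.all_eq_true, beq_iff_eq]
    intro v hv
    have hv16 : v < 16 := by simp only [List.mem_cons, List.not_mem_nil, or_false] at hv; omega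
    obtain ⟨q, hq, rfl⟩ := D.H.surj v (by omega)
    rw [← hg q hq, show x * q * x⁻¹ = q by
      rw [(hc q ⟨hq, (D.mem_low hq).mpr hv16⟩).eq, mul_inv_cancel_right]]
  have h := List.all_eq_true.mp kernel_words w hw
  rw [hfix] at h
  simp only [Bool.not_true, Bool.false_or, List.contains_iff_mem, List.mem_cons, List.not_mem_nil,
    or_false] at h
  obtain ⟨k, hk⟩ : ∃ k : ℕ, Acts Q co (y ^ k) (actW w) := by
    rcases h with rfl | rfl | rfl
    exacts [⟨0, acts_pow D.H D.yz D.act 0⟩, ⟨1, acts_pow D.H D.yz D.act 1⟩,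
      ⟨2, acts_pow D.H D.yz D.act 2⟩]
  have hy0 : y ^ k ∈ C0 z y := pow_mem (mem_C0.mpr ⟨D.yz, Commute.refl y⟩) k
  have hd := D.H.mem_of_acts_eq (mem_C0.mp hy0).1 (mem_C0.mp hx).1 hk hg
  set d := (y ^ k)⁻¹ * x
  have hd0 : d ∈ C0 z y := mul_mem (inv_mem hy0) hx
  have hdc : ∀ q ∈ Q ⊓ C0 z y, Commute d q := fun q hq =>
    ((mem_C0.mp hq.2).2.pow_right k).symm.inv_left.mul_left (hc q hq)
  have hzero : co d = 0 := by
    refine perp_low _ ((D.mem_low hd).mp hd0) fun u hu => ?_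
    obtain ⟨q, hq, rfl⟩ := D.H.surj u (by omega)
    exact (D.H.commute_iff hd hq).mp (hdc q ⟨hq, (D.mem_low hq).mpr hu⟩)
  refine ⟨k, ?_⟩
  rcases D.H.ker d hd hzero with e | e
  · exact Or.inl (inv_mul_eq_one.mp e).symm
  · exact Or.inr (by rw [← e, mul_inv_cancel_left])

/-- Elements of `C0` commuting with `t1`, `t2` modulo the fixed part of `Q`. -/
theorem top_mem (D : YD z Q co y) (Γ : Gens z Q co y t1 t2 a1 a2) {c : G} (hc : c ∈ C0 z y)
    (h1 : c * t1 * c⁻¹ * t1⁻¹ ∈ Q) (h2 : c * t2 * c⁻¹ * t2⁻¹ ∈ Q) :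
    ∃ r ∈ Subgroup.closure ({y, t1, t2} : Set G), r⁻¹ * c ∈ Q := by
  obtain ⟨w, hw, hg⟩ := D.exists_word hc
  obtain ⟨hcz, -⟩ := mem_C0.mp hc
  have key : ∀ (t : G) (g : ℕ → ℕ), Commute t z → Acts Q co t g → c * t * c⁻¹ * t⁻¹ ∈ Q →
      ∀ v < 64, actW w (g v) = g (actW w v) := by
    intro t g htz htg ht
    refine D.H.acts_unique (D.H.acts_mul htz hg htg) ?_
    have e : c * t = (c * t * c⁻¹ * t⁻¹) * (t * c) := by group
    rw [e]
    exact D.H.acts_congr (D.H.acts_mul (htz.mul_left hcz) (D.H.acts_mem ht)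
      (D.H.acts_mul hcz htg hg)) fun _ _ => rfl
  have k1 := key t1 g1 (mem_C0.mp Γ.m1).1 Γ.act1 h1
  have k2 := key t2 g2 (mem_C0.mp Γ.m2).1 Γ.act2 h2
  have hR : w ∈ rWords := by
    have h := List.all_eq_true.mp top_words w hw
    have hall : ([1, 2, 4, 8, 16].all fun v =>
        actW w (g1 v) == g1 (actW w v) && actW w (g2 v) == g2 (actW w v)) = true := by
      simp only [List.all_eq_true, Bool.and_eq_true, beq_iff_eq]
      intro v hv
      have hv64 : v < 64 := by simp only [List.mem_cons, List.not_mem_nil, or_false] at hv; omega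
      exact ⟨k1 v hv64, k2 v hv64⟩
    rw [hall] at h
    simpa using h
  obtain ⟨r, hr, hra⟩ := D.rWord_lift Γ hR
  exact ⟨r, hr, D.H.mem_of_acts_eq (mem_C0.mp (D.rclosure_le Γ hr)).1 hcz hra hg⟩

end YD

end H95.SuzY
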