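import Cfsg.Agent.H95.SuzY.Der
import Cfsg.Agent.H87.U43.Interface

/-!
The long root element lies in the derived subgroup of its centraliser.
-/

set_option autoImplicit false

namespace H95.SuzY

open H87.U43
open scoped commutatorElement

theorem siegel_shift : app (siegel 1 0) i1V = i1V + -xV ∧ iV 1 0 = i1V := by decide +kernel

theorem inDer_of_datum {K : Type*} [Group K] (D : Datum K) :
    InDer (D.alpha (Multiplicative.ofAdd xV)) := by
  set x := D.alpha (Multiplicative.ofAdd xV) with hx
  set a := D.alpha (Multiplicative.ofAdd i1V) with ha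
  set s := D.j * D.alpha (Multiplicative.ofAdd (iV 1 0)) * D.j⁻¹ with hs
  have hA : ∀ v w : V4, Commute (D.alpha (Multiplicative.ofAdd v)) (D.alpha (Multiplicative.ofAdd w)) :=
    fun v w => by
      show _ * _ = _ * _
      rw [← map_mul D.alpha, ← map_mul D.alpha, mul_comm]
  have hj : Commute D.j x := D.j_x
  have hsx : Commute s x := (hj.mul_left (hA _ _)).mul_left hj.inv_left
  have hc : ⁅s, a⁆ = x⁻¹ := by
    rw [commutatorElement_def, ha, hs, D.siegel_act 1 0 i1V, siegel_shift.1, hx, ← map_inv D.alpha,
      ← map_mul D.alpha, ← map_inv D.alpha, ← ofAdd_neg, ← ofAdd_neg, ← ofAdd_add]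
    congr 2
    abel
  have h : InDer x := by
    have hm := Subgroup.commutator_mem_commutator
      (Subgroup.mem_centralizer_singleton_iff.mpr hsx.eq : s ∈ Subgroup.centralizer ({x} : Set K))
      (Subgroup.mem_centralizer_singleton_iff.mpr (hA i1V xV).eq :
        a ∈ Subgroup.centralizer ({x} : Set K))
    rw [hc] at hm
    exact inv_mem_iff.mp hm
  exact h

end H95.SuzY
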