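import Cfsg.Agent.H87.U43.Basic

/-!
Elements of order three in the factors of a group of unitary type, and the derived subgroups of
their centralisers.
-/

set_option autoImplicit false

namespace H95.SuzY

open scoped commutatorElement
open H87.U43 (SL2 sX sZ Raw qSub)

/-- `x` lies in the derived subgroup of its centraliser -/
def InDer {K : Type*} [Group K] (x : K) : Prop :=
  x ∈ ⁅Subgroup.centralizer ({x} : Set K), Subgroup.centralizer ({x} : Set K)⁆

theorem InDer.inv {K : Type*} [Group K] {x : K} (h : InDer x) : InDer x⁻¹ := by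
  have e : Subgroup.centralizer ({x⁻¹} : Set K) = Subgroup.centralizer ({x} : Set K) := by
    ext u
    rw [Subgroup.mem_centralizer_singleton_iff, Subgroup.mem_centralizer_singleton_iff]
    exact ⟨fun h => (Commute.inv_right_iff.mp h : Commute u x),
      fun h => (Commute.inv_right (h : Commute u x))⟩
  unfold InDer
  rw [e]
  exact inv_mem h

theorem InDer.map {K L : Type*} [Group K] [Group L] {x : K} (h : InDer x) (f : K ≃* L) :
    InDer (f x) := by
  have e : (Subgroup.centralizer ({x} : Set K)).map f.toMonoidHom =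
      Subgroup.centralizer ({f x} : Set L) := by
    ext u
    rw [Subgroup.mem_centralizer_singleton_iff, Subgroup.mem_map]
    constructor
    · rintro ⟨v, hv, rfl⟩
      show f v * f x = f x * f v
      rw [← map_mul, ← map_mul, Subgroup.mem_centralizer_singleton_iff.mp hv]
    · intro hu
      refine ⟨f.symm u, Subgroup.mem_centralizer_singleton_iff.mpr (f.injective ?_), f.apply_symm_apply u⟩
      simp only [map_mul, MulEquiv.apply_symm_apply, hu]
  unfold InDer
  rw [← e, ← Subgroup.map_commutator]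
  exact ⟨x, h, rfl⟩

theorem InDer.conj {K : Type*} [Group K] {x : K} (h : InDer x) (g : K) :
    InDer (g * x * g⁻¹) :=
  h.map (MulAut.conj g)

theorem sl_cases : ∀ u : SL2, u ^ 3 = 1 → u ≠ 1 →
    ∃ k : SL2, u = k * sX * k⁻¹ ∨ u = k * sX⁻¹ * k⁻¹ := by
  decide +kernel

theorem sl_cent : ∀ u : SL2, u ^ 3 = 1 → u ≠ 1 →
    ∀ a : SL2, (u * a = a * u ∨ u * a = a * u * sZ) → a ^ 6 = 1 := by
  decide +kernel

theorem sl_six : ∀ u : SL2, (u ^ 3 = 1 → (u * sZ) ^ 3 = sZ) ∧ (u ^ 3 = sZ → (u * sZ) ^ 3 = 1) := by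
  decide +kernel

variable {K : Type*} [Group K] {z : K} {mu : SL2 × SL2 →* K}

/-- exchanging the factors -/
theorem raw_swap (R : Raw z mu) :
    Raw z (mu.comp (MulEquiv.prodComm : SL2 × SL2 ≃* SL2 × SL2).toMonoidHom) := by
  have hq : qSub (mu.comp (MulEquiv.prodComm : SL2 × SL2 ≃* SL2 × SL2).toMonoidHom) = qSub mu := by
    ext x
    rw [H87.U43.mem_qSub, H87.U43.mem_qSub]
    constructor <;> (rintro ⟨u, v, hu, hv, e⟩; exact ⟨v, u, hv, hu, e⟩)
  refine
    { ord := R.ord
      ker := fun k => ?_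
      neg := ?_
      comm := fun k => R.comm _
      normal := fun g hg k => ?_
      self_cent := hq ▸ R.self_cent
      nwc := hq ▸ R.nwc
      card_cent := R.card_cent
      meet := hq ▸ R.meet }
  · show mu (k.2, k.1) = 1 ↔ _
    rw [R.ker]
    obtain ⟨a, b⟩ := k
    simp [Prod.mk.injEq, and_comm]
  · show mu (1, sZ) = z
    rw [← R.neg, R.mu_eq]
    exact Or.inr (by simp [H87.U43.sZ_facts.1])
  · obtain ⟨k', hk'⟩ := R.normal g hg (k.2, k.1)
    exact ⟨(k'.2, k'.1), hk'⟩

/-- An element of order three commuting with an element of order four of the central product lies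
in one factor, so in the derived subgroup of its centraliser if the standard one does. -/
theorem inDer_of_comm (hfact : ∀ m : SL2 × SL2 →* K, Raw z m → InDer (m (sX, 1)))
    (R : Raw z mu) {T A : K} (hT : T ∈ mu.range) (hA : A ∈ mu.range) (hT3 : T ^ 3 = 1)
    (hT1 : T ≠ 1) (hA2 : A * A = z) (hTA : Commute T A) : InDer T := by
  obtain ⟨⟨u₀, v₀⟩, rfl⟩ := hT
  obtain ⟨⟨a, b⟩, rfl⟩ := hA
  obtain ⟨u, v, hu, hv, huv⟩ : ∃ u v : SL2, u ^ 3 = 1 ∧ v ^ 3 = 1 ∧ mu (u, v) = mu (u₀, v₀) := by
    rw [← map_pow, ← map_one mu, R.mu_eq] at hT3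
    rcases hT3 with h | h
    · exact ⟨u₀, v₀, congrArg Prod.fst h, congrArg Prod.snd h, rfl⟩
    · have h' : u₀ ^ 3 = sZ ∧ v₀ ^ 3 = sZ := by simpa [Prod.ext_iff] using h
      exact ⟨u₀ * sZ, v₀ * sZ, (sl_six u₀).2 h'.1, (sl_six v₀).2 h'.2,
        R.mu_eq.mpr (Or.inr rfl)⟩
  rw [← huv] at hT1 hTA ⊢
  have one : ∀ {m : SL2 × SL2 →* K}, Raw z m → ∀ {w : SL2}, w ^ 3 = 1 → w ≠ 1 → InDer (m (w, 1)) := by
    intro m Rm w hw hw1
    obtain ⟨k, e | e⟩ := sl_cases w hw hw1
    · have := (hfact m Rm).conj (m (k, 1))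
      rw [← map_inv, ← map_mul, ← map_mul] at this
      simpa [e] using this
    · have := (hfact m Rm).inv.conj (m (k, 1))
      rw [← map_inv, ← map_inv, ← map_mul, ← map_mul] at this
      simpa [e] using this
  by_cases hv1 : v = 1
  · subst hv1
    exact one R hu fun h => hT1 (by rw [h]; exact map_one mu)
  by_cases hu1 : u = 1
  · subst hu1
    exact one (raw_swap R) hv hv1
  exfalso
  have hc : mu ((u, v) * (a, b)) = mu ((a, b) * (u, v)) := by
    rw [map_mul, map_mul]; exact hTA.eq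
  rw [R.mu_eq] at hc
  have hab : a ^ 6 = 1 ∧ b ^ 6 = 1 := by
    rcases hc with h | h <;> simp only [Prod.mk_mul_mk, Prod.mk.injEq] at h
    · exact ⟨sl_cent u hu hu1 a (Or.inl h.1), sl_cent v hv hv1 b (Or.inl h.2)⟩
    · exact ⟨sl_cent u hu hu1 a (Or.inr h.1), sl_cent v hv hv1 b (Or.inr h.2)⟩
  have h6 : mu (a, b) ^ 6 = 1 := by
    rw [← map_pow, show ((a, b) : SL2 × SL2) ^ 6 = 1 from Prod.ext hab.1 hab.2, map_one]
  rw [show mu (a, b) ^ 6 = (mu (a, b) * mu (a, b)) * (mu (a, b) * mu (a, b)) *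
    (mu (a, b) * mu (a, b)) by simp only [pow_succ, pow_zero, one_mul, mul_assoc], hA2, R.zz, one_mul] at h6
  exact R.z_ne h6

/-- The central product contains the elements of odd order of the centraliser. -/
theorem odd_mem_range [Finite K] (R : Raw z mu) {x : K} (hx : Commute x z)
    (ho : Odd (orderOf x)) : x ∈ mu.range := by
  let C := Subgroup.centralizer ({z} : Set K)
  have hle : mu.range ≤ C := by
    rintro _ ⟨k, rfl⟩
    exact Subgroup.mem_centralizer_singleton_iff.mpr (R.comm k)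
  have hn : (mu.range.subgroupOf C).Normal := by
    refine ⟨fun n hn g => ?_⟩
    obtain ⟨k, hk⟩ := hn
    obtain ⟨k', hk'⟩ := R.normal g (Subgroup.mem_centralizer_singleton_iff.mp g.2) k
    refine ⟨k', ?_⟩
    show mu k' = ((g * n * g⁻¹ : C) : K)
    rw [← hk', hk]
    simp
  have hker : Nat.card mu.ker = 2 := by
    have e : mu.ker = Subgroup.zpowers (sZ, sZ) := by
      refine le_antisymm (fun k hk => ?_) (Subgroup.zpowers_le.mpr ((R.ker _).mpr (Or.inr rfl)))
      rcases (R.ker k).mp hk with rfl | rfl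
      exacts [one_mem _, Subgroup.mem_zpowers _]
    rw [e, Nat.card_zpowers]
    exact orderOf_eq_prime (by rw [pow_two, Prod.mk_mul_mk, H87.U43.sZ_facts.1]; rfl)
      fun h => H87.U43.sZ_facts.2.1 (congrArg Prod.fst h)
  have hrange : Nat.card mu.range = 288 := by
    have h1 := mu.ker.card_mul_index
    rw [Subgroup.index_ker, hker, Nat.card_prod, H87.U43.sl_card] at h1
    omega
  have hidx : (mu.range.subgroupOf C).index = 4 := by
    have h2 := (mu.range.subgroupOf C).card_mul_index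
    rw [Nat.card_congr (Subgroup.subgroupOfEquivOfLe hle).toEquiv, hrange, R.card_cent] at h2
    omega
  have h4 := (mu.range.subgroupOf C).pow_index_mem (G := C)
    ⟨x, Subgroup.mem_centralizer_singleton_iff.mpr hx.eq⟩
  rw [hidx] at h4
  have h4' : x ^ 4 ∈ mu.range := h4
  obtain ⟨k, hk⟩ := exists_pow_eq_self_of_coprime (x := x) (n := 4)
    ((Nat.coprime_two_left.mpr ho).pow_left 2)
  rw [← hk]
  exact pow_mem h4' k

end H95.SuzY
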