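import Cfsg.Agent.H95.SuzY.Assemble
import Cfsg.Agent.H73.Suz.Setup
import Cfsg.Agent.H50.Simple

/-!
The centraliser of the subgroup of order three, given the recognition of groups of type `U4(3)`.
-/

set_option autoImplicit false
set_option maxRecDepth 10000

universe u

namespace H95.SuzY

open Cfsg H87.U43

/-- recognition of the groups of unitary type, for groups in a given universe -/
def U43Recognised (F : Type) [Field F] [Fintype F] : Prop :=
  ∀ (K : Type u) [Group K] [Finite K] (zb : K), orderOf zb = 2 →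
    ∀ (H₁ H₂ : Subgroup (Subgroup.centralizer ({zb} : Set K))),
    H₁ ⊔ H₂ = Subgroup.closure {x : Subgroup.centralizer ({zb} : Set K) | Odd (orderOf x)} →
    (H₁.subgroupOf (H₁ ⊔ H₂)).Normal → (H₂.subgroupOf (H₁ ⊔ H₂)).Normal →
    ∀ (_ : H₁ ≃* SL2) (_ : H₂ ≃* SL2),
    (H₁ ⊓ H₂).map (Subgroup.subtype (Subgroup.centralizer ({zb} : Set K))) = Subgroup.zpowers zb →
    ∀ (Qb : Subgroup (Subgroup.centralizer ({zb} : Set K))), Qb.Normal →
    Qb = (Cfsg.pCore 2 ↥(H₁ ⊔ H₂)).map (Subgroup.subtype (H₁ ⊔ H₂)) →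
    Cfsg.generalizedFittingSubgroup (Subgroup.centralizer ({zb} : Set K)) = Qb →
    (∃ g : K, (∃ hq : g * zb * g⁻¹ ∈ Subgroup.centralizer ({zb} : Set K),
      (⟨g * zb * g⁻¹, hq⟩ : Subgroup.centralizer ({zb} : Set K)) ∈ Qb) ∧ g * zb * g⁻¹ ≠ zb) →
    Nat.card ↥(Subgroup.centralizer ({zb} : Set K)) = 2 ^ 7 * 3 ^ 2 →
    (∀ g : K, g * zb * g⁻¹ ∈ Qb.map (Subgroup.subtype (Subgroup.centralizer ({zb} : Set K))) →
      g * zb * g⁻¹ ≠ zb →
      Nat.card ↥((Qb.map (Subgroup.subtype (Subgroup.centralizer ({zb} : Set K)))) ⊓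
        (Qb.map (Subgroup.subtype (Subgroup.centralizer ({zb} : Set K)))).map
          (MulAut.conj g).toMonoidHom) = 4) →
    Nonempty (K ≃* Cfsg.PSU 4 F 3)

theorem suz_three_centralizer {G : Type u} [Group G] [Finite G] (z : G) (hz : orderOf z = 2)
    (Q : Subgroup (Subgroup.centralizer ({z} : Set G))) [Q.Normal]
    (hF : Cfsg.generalizedFittingSubgroup (Subgroup.centralizer ({z} : Set G)) = Q)
    (hQ : Cfsg.IsExtraspecial 2 Q) (hcard : Nat.card Q = 2 ^ 7)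
    (e : (Subgroup.centralizer ({z} : Set G)) ⧸ Q ≃*
      Cfsg.Omega (ZMod 2) (Cfsg.quadFormMinus 2 (ZMod 2) 1 1))
    (hnwc : ∃ g : G, (∃ hq : g * z * g⁻¹ ∈ Subgroup.centralizer ({z} : Set G),
      (⟨g * z * g⁻¹, hq⟩ : Subgroup.centralizer ({z} : Set G)) ∈ Q) ∧ g * z * g⁻¹ ≠ z)
    (Y : Subgroup (Subgroup.centralizer ({z} : Set G))) (hY : Nat.card Y = 3)
    (hQY : Nat.card ↥⁅Q, Y⁆ = 8) (hQYna : ¬ IsMulCommutative ↥⁅Q, Y⁆)
    (Y' : Subgroup G)
    (hY' : Y' = Y.map (Subgroup.subtype (Subgroup.centralizer ({z} : Set G))))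
    [(Y'.subgroupOf (Subgroup.centralizer (Y' : Set G))).Normal]
    (F : Type) [Field F] [Fintype F] (hK : Fintype.card F = 9)
    (hrec : U43Recognised.{u} F)
    (hfact : ∀ (K : Type u) [Group K] [Finite K] (zb : K) (mu : SL2 × SL2 →* K),
      Raw zb mu → InDer (mu (sX, 1))) :
    Cfsg.IsQuasisimple ↥(Subgroup.centralizer (Y' : Set G)) ∧
      Nonempty (↥(Subgroup.centralizer (Y' : Set G)) ⧸
        Y'.subgroupOf (Subgroup.centralizer (Y' : Set G)) ≃* Cfsg.PSU 4 F 3) ∧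
      (Subgroup.centralizer (Y' : Set G)).relIndex (Subgroup.normalizer (Y' : Set G)) = 2 := by
  obtain ⟨co, H⟩ := H73.Suz.exists_data z hz Q hF hQ hcard e hnwc
  obtain ⟨y, hy, co', D⟩ := exists_yd H Y hY hQY hQYna
  obtain rfl : Y' = Subgroup.zpowers y := hY'.trans hy
  set C := Subgroup.centralizer ((Subgroup.zpowers y : Subgroup G) : Set G) with hC
  set YY := (Subgroup.zpowers y).subgroupOf C with hYY
  let i : Subgroup.centralizer ({y} : Set G) ≃* C :=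
    MulEquiv.subgroupCongr (centralizer_zpowers y).symm
  let π : Subgroup.centralizer ({y} : Set G) →* C ⧸ YY := (QuotientGroup.mk' YY).comp i.toMonoidHom
  have hπ : Function.Surjective π := (QuotientGroup.mk'_surjective YY).comp i.surjective
  have hker : ∀ c, π c = 1 ↔ (c : G) ∈ Subgroup.zpowers y := fun c =>
    (QuotientGroup.eq_one_iff (i c)).trans Iff.rfl
  obtain ⟨zb, H₁, H₂, Qb, hzb, hzo, hJ, hn₁, hn₂, ⟨e₁⟩, ⟨e₂⟩, hmeet, hQn, hQeq, hQF, hfus, hH,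
    hQQ⟩ := D.quot_type (C ⧸ YY) π hπ hker
  obtain ⟨iso⟩ := hrec (C ⧸ YY) zb hzo H₁ H₂ hJ hn₁ hn₂ e₁ e₂ hmeet Qb hQn hQeq hQF hfus hH hQQ
  haveI : IsSimpleGroup (Cfsg.PSU 4 F 3) :=
    H50.PSU_isSimple (by rw [hK]; norm_num) (by norm_num) (by norm_num)
  refine ⟨quasisimple_of D _ iso (fun zb' hzb' => ?_) (fun zb' mu R => hfact _ zb' mu R), ⟨iso⟩,
    D.relIndex_eq_two⟩
  obtain rfl : zb' = zb := by
    have hzy : z ∈ Subgroup.centralizer ({y} : Set G) :=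
      Subgroup.mem_centralizer_singleton_iff.mpr D.yz.symm.eq
    rw [hzb hzy, hzb' (i ⟨z, hzy⟩).2]
    rfl
  exact exists_raw zb' hzo H₁ H₂ hJ hn₁ hn₂ e₁ e₂ hmeet Qb hQeq hQF hfus hH hQQ

end H95.SuzY
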