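import Cfsg.Agent.H95.SuzY.Base
import Mathlib.GroupTheory.Perm.Cycle.Type

/-!
Fixed points of the element of order three on the subgroup attached to an involution it
centralises, and the resulting fusion inside its centraliser.
-/

set_option autoImplicit false
set_option maxRecDepth 10000

namespace H95.SuzY

open H73.Suz

open H69 (lxQ LXFam)

open H73.Suz.Data (Rs mem_Rs)

variable {G : Type*} [Group G] [Finite G] {z : G} {Q : Subgroup G} {co : G → ℕ}

/-- displacement and fixed points in `Q` -/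
theorem card_range_mul (H : Data z Q co) {c : G} (hc : Commute c z) (hc3 : c * c * c = 1) :
    Nat.card (Set.range fun q : Q => co (c * q * c⁻¹) ^^^ co q) *
      Nat.card (Q ⊓ Subgroup.centralizer ({c} : Set G) : Subgroup G) = 128 := by
  obtain ⟨g, hg, I⟩ := H.exists_act hc
  let K0 : Subgroup Q := (Subgroup.centralizer ({c} : Set G)).subgroupOf Q
  let F : Q → ℕ := fun q => co (c * q * c⁻¹) ^^^ co q
  have hF : ∀ a b : Q, F a = F b ↔ a⁻¹ * b ∈ K0 := by
    intro a b
    have hb : (b : G) = a * ((a⁻¹ * b : Q) : G) := by simp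
    have hab : F b = F a ^^^ F (a⁻¹ * b) := by
      show co (c * b * c⁻¹) ^^^ co b = _ ^^^ (co (c * ((a⁻¹ * b : Q) : G) * c⁻¹) ^^^ co _)
      rw [hg b b.2, hg _ (a⁻¹ * b).2]
      conv_lhs => rw [hb]
      rw [H.mul _ a.2 _ (a⁻¹ * b).2, I.add _ (H.lt _) _ (H.lt _)]
      show _ = (co (c * a * c⁻¹) ^^^ co a) ^^^ _
      rw [hg a a.2]
      simp only [Nat.xor_assoc, Nat.xor_comm, Nat.xor_left_comm]
    have hK : a⁻¹ * b ∈ K0 ↔ F (a⁻¹ * b) = 0 := by
      constructor
      · intro h
        have h' : Commute ((a⁻¹ * b : Q) : G) c := Subgroup.mem_centralizer_singleton_iff.mp h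
        show co (c * _ * c⁻¹) ^^^ _ = 0
        rw [← h'.eq, mul_inv_cancel_right, Nat.xor_self]
      · intro h
        refine Subgroup.mem_centralizer_singleton_iff.mpr ?_
        refine (fixed_commute H hc3 hc hg (a⁻¹ * b).2 ?_).eq.symm
        have h1 : co (c * ((a⁻¹ * b : Q) : G) * c⁻¹) = co ((a⁻¹ * b : Q) : G) := xor_eq_zero h
        rwa [hg _ (a⁻¹ * b).2] at h1
    rw [hK, hab]
    constructor
    · intro h
      have := congrArg (F a ^^^ ·) h
      simpa [← Nat.xor_assoc] using this.symm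
    · intro h
      rw [h, Nat.xor_zero]
  let E : Q ⧸ K0 → Set.range F :=
    Quotient.lift (fun q => ⟨F q, q, rfl⟩) fun a b h =>
      Subtype.ext ((hF a b).mpr (QuotientGroup.leftRel_apply.mp h))
  have hE : Function.Bijective E := by
    constructor
    · intro a b
      induction a using QuotientGroup.induction_on with | _ a =>
      induction b using QuotientGroup.induction_on with | _ b =>
      intro h
      exact QuotientGroup.eq.mpr ((hF a b).mp (congrArg Subtype.val h))
    · rintro ⟨n, q, rfl⟩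
      exact ⟨QuotientGroup.mk q, rfl⟩
  have hi : Nat.card (Set.range F) = K0.index := (Nat.card_eq_of_bijective E hE).symm
  have hk : Nat.card K0 = Nat.card (Q ⊓ Subgroup.centralizer ({c} : Set G) : Subgroup G) := by
    refine Nat.card_congr
      { toFun := fun q => ⟨q.1.1, q.1.2, q.2⟩
        invFun := fun q => ⟨⟨q.1, q.2.1⟩, q.2.2⟩
        left_inv := fun q => rfl
        right_inv := fun q => rfl }
  change Nat.card (Set.range F) * _ = 128
  rw [hi, ← hk, mul_comm, K0.card_mul_index, H.card]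

/-- An element of order three fixing `32` elements of `Q` is standard in suitable coordinates. -/
theorem exists_std_of_fixed (H : Data z Q co) {y : G} (hy : Commute y z) (hy3 : y * y * y = 1)
    (hf : Nat.card (Q ⊓ Subgroup.centralizer ({y} : Set G) : Subgroup G) = 32) :
    ∃ c, Commute c z ∧ Acts Q (fun q => co (c * q * c⁻¹)) y g0 := by
  refine exists_std H hy hy3 ?_
  have := card_range_mul H hy hy3
  rw [hf] at this
  omega

namespace YD

variable {y : G}

/-- Elements of order three of the same kind are conjugate in `C(z)`. -/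
theorem conj_of_fixed (D : YD z Q co y) {x : G} (hx : Commute x z) (hx3 : x * x * x = 1)
    (hf : Nat.card (Q ⊓ Subgroup.centralizer ({x} : Set G) : Subgroup G) = 32) :
    ∃ c, Commute c z ∧ c * y * c⁻¹ = x := by
  obtain ⟨c, hc, hg⟩ := exists_std_of_fixed D.H hx hx3 hf
  have hxz : Commute (c * x * c⁻¹) z := (hc.mul_left hx).mul_left hc.inv_left
  have hact : Acts Q co (c * x * c⁻¹) g0 := fun q hq => by
    have hq' : c⁻¹ * q * c ∈ Q := by simpa using D.H.nor c⁻¹ hc.inv_left.eq q hq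
    have h := hg _ hq'
    simp only at h
    rw [show c * (c⁻¹ * q * c) * c⁻¹ = q by group] at h
    rw [← h]
    congr 1
    group
  obtain ⟨d, hd, -, hdy⟩ := exists_conj D.H D.y3
    (by rw [show c * x * c⁻¹ * (c * x * c⁻¹) * (c * x * c⁻¹) = c * (x * x * x) * c⁻¹ by group,
      hx3]; group) D.yz hxz D.act hact (fun _ => True)
    (fun _ h0 => by
      obtain ⟨d, hd, hdv⟩ := lift_zero _ (D.H.lt _) h0
      exact ⟨d, hd, trivial, hdv⟩)
  refine ⟨c⁻¹ * d, hc.inv_left.mul_left (D.H.comm_z hd), ?_⟩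
  calc c⁻¹ * d * y * (c⁻¹ * d)⁻¹ = c⁻¹ * (d * y * d⁻¹) * c := by group
    _ = x := by rw [hdy]; group

/-- An element inverting the standard element. -/
theorem exists_inverter (D : YD z Q co y) : ∃ c, Commute c z ∧ c * y * c⁻¹ = y⁻¹ := by
  obtain ⟨c, hc, hcy⟩ := D.conj_of_fixed D.yz.inv_left (x := y⁻¹)
    (by rw [← mul_inv_rev, ← mul_inv_rev, ← mul_assoc, D.y3, inv_one]) (by
      have e : Subgroup.centralizer ({y⁻¹} : Set G) = Subgroup.centralizer ({y} : Set G) := by
        ext x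
        rw [Subgroup.mem_centralizer_singleton_iff, Subgroup.mem_centralizer_singleton_iff]
        exact ⟨fun h => (Commute.inv_right_iff.mp h : Commute x y),
          fun h => (Commute.inv_right (h : Commute x y))⟩
      rw [e]
      have hQ0 : Q ⊓ C0 z y = Q ⊓ Subgroup.centralizer ({y} : Set G) := by
        ext x
        constructor
        · exact fun h => ⟨h.1, h.2.2⟩
        · exact fun h => ⟨h.1, Subgroup.mem_centralizer_singleton_iff.mpr (D.H.comm_z h.1).eq, h.2⟩
      rw [← hQ0]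
      exact D.card_low)
  exact ⟨c, hc, hcy⟩

/-- Fixed points on the subgroup attached to a fixed singular element. -/
theorem card_fixed_sing (D : YD z Q co y) {s : G} (hs : s ∈ Q) (hs1 : co s = 1) :
    Nat.card (lxQ Q z s ⊓ Subgroup.centralizer ({y} : Set G) : Subgroup G) = 32 := by
  classical
  have H := D.H
  have hys : Commute y s := ((D.commute_iff_low hs).mpr (by rw [hs1]; norm_num)).symm
  have J0 : IsIso g0 := (exists_pair_iso H (by norm_num) (by rfl) (by norm_num) (by rfl)).elim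
    fun _ p => p.2.2
  have hs0 : s ∈ Rs z Q s := by
    refine mem_Rs.mpr ⟨?_, H.comm_z hs⟩
    obtain ⟨g, hg⟩ := H.sing_one hs hs1
    rw [← hg, H69.lxQ_self H.pre H.hcen g]
    exact ⟨z, H.zmem, rfl⟩
  have hz0 : z ∈ Rs z Q s := mem_Rs.mpr ⟨H.z_mem_Qs hs hs1, Commute.refl z⟩
  have dfix : ∀ d, (d = 1 ∨ d = z ∨ d = s ∨ d = s * z) → d ∈ Rs z Q s ∧ Commute y d := by
    rintro d (rfl | rfl | rfl | rfl)
    exacts [⟨one_mem _, Commute.one_right y⟩, ⟨hz0, D.yz⟩, ⟨hs0, hys⟩,
      ⟨mul_mem hs0 hz0, hys.mul_right D.yz⟩]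
  -- fixed elements of `Rs` are those with small labels
  have key : ∀ r ∈ Rs z Q s, ∀ w, InW w → Acts Q co r (un w) → (Commute r y ↔ w < 16) := by
    intro r hr w hw ha
    have hc := H.label_conj hw.1 (mem_Rs.mp hr).2 D.yz D.act J0 (by decide) ha
    have hr' := H.conj_Rs D.yz hys hr
    obtain ⟨⟨l1, l2⟩, l3⟩ := label_split w hw.1 hw.2.1 hw.2.2
    have hw' : InW (g0 w) := ⟨J0.lt w hw.1, l1, l2⟩
    constructor
    · intro h
      rw [show y * r * y⁻¹ = r by rw [← h.eq, mul_inv_cancel_right]] at hc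
      exact l3.mp (H.label_unique hw' hw hc ha)
    · intro h
      rw [l3.mpr h] at hc
      obtain ⟨d, hd, e⟩ := H.same_label hs hs1 hr hr' ha hc
      have hyd : y * d * y⁻¹ = d := by rw [(dfix d hd).2.eq, mul_inv_cancel_right]
      have e3 : y * (y * (y * r * y⁻¹) * y⁻¹) * y⁻¹ = r * d * d * d := by
        rw [e, show y * (r * d) * y⁻¹ = y * r * y⁻¹ * (y * d * y⁻¹) by group, e, hyd,
          show y * (r * d * d) * y⁻¹ = y * r * y⁻¹ * (y * d * y⁻¹) * (y * d * y⁻¹) by group, e, hyd]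
      rw [show y * (y * (y * r * y⁻¹) * y⁻¹) * y⁻¹ = y * y * y * r * (y * y * y)⁻¹ by group, D.y3,
        one_mul, inv_one, mul_one, mul_assoc _ d d, (H.co_s_cases hs hs1 hd).2.2, mul_one] at e3
      have hd1 : d = 1 := mul_eq_left.mp e3.symm
      rw [hd1, mul_one] at e
      exact (mul_inv_eq_iff_eq_mul.mp e).symm
  let L : Fin 4 → ℕ := ![0, 2, 8, 10]
  have hL : ∀ i, InW (L i) ∧ L i < 16 := by
    intro i; fin_cases i <;> (unfold InW; decide)
  have hLsurj : ∀ w, InW w → w < 16 → ∃ i, L i = w := by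
    rintro w ⟨-, h0, h2⟩ hw
    have : ∀ w < 16, w.testBit 0 = false → w.testBit 2 = false → ∃ i, L i = w := by
      decide +kernel
    exact this w hw h0 h2
  choose r hr hra using fun i => H.exists_of_label hs hs1 (hL i).1
  let dv : Fin 4 → G := ![1, z, s, s * z]
  have hdv : ∀ j, dv j = 1 ∨ dv j = z ∨ dv j = s ∨ dv j = s * z := by
    intro j; fin_cases j <;> simp [dv]
  have hdv_surj : ∀ d, (d = 1 ∨ d = z ∨ d = s ∨ d = s * z) → ∃ j, dv j = d := by
    rintro d (rfl | rfl | rfl | rfl)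
    exacts [⟨0, rfl⟩, ⟨1, rfl⟩, ⟨2, rfl⟩, ⟨3, rfl⟩]
  let B : Subgroup G := Rs z Q s ⊓ Subgroup.centralizer ({y} : Set G)
  let F : Fin 4 × Fin 4 → B := fun p => ⟨r p.1 * dv p.2, mul_mem (hr _) (dfix _ (hdv _)).1,
    Subgroup.mem_centralizer_singleton_iff.mpr
      (((key _ (hr _) _ (hL _).1 (hra _)).mpr (hL _).2).mul_left (dfix _ (hdv _)).2.symm).eq⟩
  have hF : Function.Bijective F := by
    constructor
    · rintro ⟨i, j⟩ ⟨i', j'⟩ h
      have h' : r i * dv j = r i' * dv j' := congrArg Subtype.val h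
      have hii : i = i' := by
        have ha : ∀ i j, Acts Q co (r i * dv j) (un (L i)) := fun i j =>
          H.acts_congr (H.acts_mul (H.comm_z (H.co_s_cases hs hs1 (hdv j)).1) (hra i)
            (H.acts_mem (H.co_s_cases hs hs1 (hdv j)).1)) fun _ _ => rfl
        have := H.label_unique (hL i).1 (hL i').1 (ha i j) (h' ▸ ha i' j')
        revert this
        fin_cases i <;> fin_cases i' <;> decide
      subst hii
      have hjj := mul_left_cancel h'
      obtain ⟨s1, s2⟩ := H.ne_of_co (s := s) (by rw [hs1]; decide)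
      have hsz1 : s * z ≠ 1 := fun h => s2 (by rw [← H.z_inv]; exact eq_inv_of_mul_eq_one_left h)
      have hjj' : j = j' := by
        revert hjj
        fin_cases j <;> fin_cases j' <;>
          simp [dv, H.z_ne, H.z_ne.symm, s1, s1.symm, s2, s2.symm, hsz1, hsz1.symm]
      rw [hjj']
    · rintro ⟨x, hx, hxy⟩
      obtain ⟨w, hw, hwa⟩ := H.exists_label hs hs1 hx
      obtain ⟨i, rfl⟩ := hLsurj w hw
        ((key x hx w hw hwa).mp (Subgroup.mem_centralizer_singleton_iff.mp hxy))
      obtain ⟨d, hd, rfl⟩ := H.same_label hs hs1 (hr i) hx (hra i) hwa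
      obtain ⟨j, rfl⟩ := hdv_surj d hd
      exact ⟨(i, j), rfl⟩
  have hB : Nat.card B = 16 := by
    rw [← Nat.card_eq_of_bijective F hF]; simp
  -- an element outside
  let A : Subgroup G := lxQ Q z s ⊓ Subgroup.centralizer ({y} : Set G)
  have hBA : ∀ x, x ∈ B ↔ x ∈ A ∧ Commute x z := by
    intro x
    constructor
    · rintro ⟨h1, h2⟩
      exact ⟨⟨(mem_Rs.mp h1).1, h2⟩, (mem_Rs.mp h1).2⟩
    · rintro ⟨⟨h1, h2⟩, h3⟩
      exact ⟨mem_Rs.mpr ⟨h1, h3⟩, h2⟩
  obtain ⟨x₀, hx₀, hx₀z⟩ : ∃ x ∈ A, ¬ Commute x z := by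
    by_contra hno
    push Not at hno
    have hAB : A = B := le_antisymm (fun x hx => (hBA x).mpr ⟨hx, hno x hx⟩)
      fun x hx => ((hBA x).mp hx).1
    have : Fintype (lxQ Q z s) := Fintype.ofFinite _
    have : Fact (Nat.Prime 3) := ⟨Nat.prime_three⟩
    have hmem : ∀ {c : G}, Commute c s → ∀ x ∈ lxQ Q z s, c * x * c⁻¹ ∈ lxQ Q z s :=
      fun hc x hx => H.fam.conj_mem hx hc
    let f : Function.End (lxQ Q z s) := fun x => ⟨y * x * y⁻¹, hmem hys x x.2⟩
    have hf : f ^ 3 ^ 1 = 1 := by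
      refine funext fun x => Subtype.ext ?_
      show y * (y * (y * (x : G) * y⁻¹) * y⁻¹) * y⁻¹ = x
      rw [show y * (y * (y * (x : G) * y⁻¹) * y⁻¹) * y⁻¹ = (y * y * y) * x * (y * y * y)⁻¹ by group,
        D.y3]
      group
    have hcong := Equiv.Perm.card_fixedPoints_modEq (p := 3) (n := 1) hf
    have hfix : Fintype.card (Function.fixedPoints f) = Nat.card A := by
      rw [← Nat.card_eq_fintype_card]
      refine Nat.card_congr
        { toFun := fun x => ⟨x.1.1, x.1.2, Subgroup.mem_centralizer_singleton_iff.mpr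
            (mul_inv_eq_iff_eq_mul.mp (congrArg Subtype.val x.2)).symm⟩
          invFun := fun x => ⟨⟨x.1, x.2.1⟩, Subtype.ext (by
            show y * (x : G) * y⁻¹ = x
            rw [← Subgroup.mem_centralizer_singleton_iff.mp x.2.2, mul_inv_cancel_right])⟩
          left_inv := fun x => rfl
          right_inv := fun x => rfl }
    rw [hfix, hAB, hB, ← Nat.card_eq_fintype_card, H.card_Qs hs hs1] at hcong
    exact absurd hcong (by decide)
  have conjz : ∀ x ∈ A, ¬ Commute x z → x * z * x⁻¹ = z * s := fun x hx hn =>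
    (H.fam.comm_cases (H.sing_one hs hs1) hx.1 (H.z_mem_Qs hs hs1)).resolve_left fun h =>
      hn (mul_inv_eq_iff_eq_mul.mp h)
  let F2 : Bool × B → A := fun p => ⟨if p.1 then x₀ * p.2 else p.2, by
    split
    · exact mul_mem hx₀ ((hBA _).mp p.2.2).1
    · exact ((hBA _).mp p.2.2).1⟩
  have hF2 : Function.Bijective F2 := by
    constructor
    · rintro ⟨a, u⟩ ⟨b, v⟩ h
      have h' := congrArg Subtype.val h
      simp only [F2] at h'
      have hu := ((hBA _).mp u.2).2
      have hv := ((hBA _).mp v.2).2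
      cases a <;> cases b <;> simp at h'
      · rw [h']
      · refine absurd ?_ hx₀z
        rw [show x₀ = (u : G) * (v : G)⁻¹ by rw [h']; group]
        exact hu.mul_left hv.inv_left
      · refine absurd ?_ hx₀z
        rw [show x₀ = (v : G) * (u : G)⁻¹ by rw [← h']; group]
        exact hv.mul_left hu.inv_left
      · rw [h']
    · rintro ⟨x, hx⟩
      by_cases hxz : Commute x z
      · exact ⟨(false, ⟨x, (hBA x).mpr ⟨hx, hxz⟩⟩), rfl⟩
      · refine ⟨(true, ⟨x₀⁻¹ * x, (hBA _).mpr ⟨mul_mem (inv_mem hx₀) hx, ?_⟩⟩),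
          Subtype.ext (mul_inv_cancel_left x₀ x)⟩
        refine mul_inv_eq_iff_eq_mul.mp ?_
        calc x₀⁻¹ * x * z * (x₀⁻¹ * x)⁻¹ = x₀⁻¹ * (x * z * x⁻¹) * x₀ := by group
          _ = x₀⁻¹ * (x₀ * z * x₀⁻¹) * x₀ := by rw [conjz x hx hxz, conjz x₀ hx₀ hx₀z]
          _ = z := by group
  show Nat.card A = 32
  rw [← Nat.card_eq_of_bijective F2 hF2, Nat.card_prod, hB]
  simp

/-- A fixed singular element is conjugate to `z` inside the centraliser of `y`. -/
theorem exists_fusion (D : YD z Q co y) :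
    ∃ e s : G, Commute e y ∧ s ∈ Q ∧ Commute s y ∧ s ≠ z ∧ e * z * e⁻¹ = s := by
  have H := D.H
  obtain ⟨s, hs, hs1⟩ := H.surj 1 (by norm_num)
  have hys : Commute y s := ((D.commute_iff_low hs).mpr (by rw [hs1]; norm_num)).symm
  obtain ⟨g, hg⟩ := H.sing_one hs hs1
  have hxz : Commute (g⁻¹ * y * g) z := by
    refine mul_inv_eq_iff_eq_mul.mp ?_
    calc g⁻¹ * y * g * z * (g⁻¹ * y * g)⁻¹ = g⁻¹ * (y * (g * z * g⁻¹) * y⁻¹) * g := by group
      _ = g⁻¹ * s * g := by rw [hg, hys.eq, mul_inv_cancel_right]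
      _ = z := by rw [← hg]; group
  have hf : Nat.card (Q ⊓ Subgroup.centralizer ({g⁻¹ * y * g} : Set G) : Subgroup G) = 32 := by
    have h32 := D.card_fixed_sing hs hs1
    rw [← hg, H69.lxQ_self H.pre H.hcen g] at h32
    have e : (Q ⊓ Subgroup.centralizer ({g⁻¹ * y * g} : Set G)).map (MulAut.conj g).toMonoidHom =
        Q.map (MulAut.conj g).toMonoidHom ⊓ Subgroup.centralizer ({y} : Set G) := by
      ext x
      simp only [Subgroup.mem_map, Subgroup.mem_inf, Subgroup.mem_centralizer_singleton_iff,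
        MulEquiv.coe_toMonoidHom, MulAut.conj_apply]
      constructor
      · rintro ⟨u, ⟨hu, huc⟩, rfl⟩
        refine ⟨⟨u, hu, rfl⟩, ?_⟩
        calc g * u * g⁻¹ * y = g * (u * (g⁻¹ * y * g)) * g⁻¹ := by group
          _ = y * (g * u * g⁻¹) := by rw [huc]; group
      · rintro ⟨⟨u, hu, rfl⟩, huc⟩
        refine ⟨u, ⟨hu, ?_⟩, rfl⟩
        calc u * (g⁻¹ * y * g) = g⁻¹ * (g * u * g⁻¹ * y) * g := by group
          _ = g⁻¹ * y * g * u := by rw [huc]; group
    rw [← e, Subgroup.card_map_of_injective (MulAut.conj g).injective] at h32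
    exact h32
  obtain ⟨c, hc, hcy⟩ := D.conj_of_fixed hxz
    (by rw [show g⁻¹ * y * g * (g⁻¹ * y * g) * (g⁻¹ * y * g) = g⁻¹ * (y * y * y) * g by group,
      D.y3]; group) hf
  refine ⟨g * c, s, ?_, hs, hys.symm, fun h => ?_, ?_⟩
  · show g * c * y = y * (g * c)
    calc g * c * y = g * (c * y * c⁻¹) * c := by group
      _ = y * (g * c) := by rw [hcy]; group
  · rw [h, H.coz] at hs1; simp at hs1
  · calc g * c * z * (g * c)⁻¹ = g * (c * z * c⁻¹) * g⁻¹ := by group
      _ = s := by rw [H.conj_z hc, hg]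

end YD

end H95.SuzY
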