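import Cfsg.Agent.H95.SuzY.Quot
import Cfsg.Agent.H95.SuzY.Der
import Cfsg.Prelude.Def_CaseTheorems

/-!
The centraliser of the element of order three is perfect, and has index two in its normaliser.
-/

set_option autoImplicit false
set_option maxRecDepth 10000

namespace H95.SuzY

open H73.Suz
open scoped commutatorElement

theorem inverting_word : ∃ w ∈ cWords,
    ([1, 2, 4, 8, 16, 32].all fun v => actW w (g1 v) == g1 (g1 (actW w v))) = true := by
  decide +kernel

theorem moved_one : (Finset.range 64).image (fun v => g1 v ^^^ v) = {0, 5, 11, 14} := by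
  decide +kernel

variable {G : Type*} [Group G] [Finite G] {z : G} {Q : Subgroup G} {co : G → ℕ} {y : G}

namespace YD

theorem mem_zpowers_cases (D : YD z Q co y) {w : G} (hw : w ∈ Subgroup.zpowers y) :
    w = 1 ∨ w = y ∨ w = y⁻¹ := by
  obtain ⟨k, rfl⟩ := hw
  have h3 : y ^ (3 : ℤ) = 1 := by rw [zpow_ofNat, pow_three', D.y3]
  show y ^ k = 1 ∨ y ^ k = y ∨ y ^ k = y⁻¹
  have e : y ^ k = y ^ (k % 3) := by
    conv_lhs => rw [← Int.emod_add_mul_ediv k 3]
    rw [zpow_add, zpow_mul, h3, one_zpow, mul_one]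
  rw [e]
  have h1 := Int.emod_nonneg k (show (3 : ℤ) ≠ 0 by norm_num)
  have h2 := Int.emod_lt_of_pos k (show (0 : ℤ) < 3 by norm_num)
  obtain h | h | h : k % 3 = 0 ∨ k % 3 = 1 ∨ k % 3 = 2 := by omega
  · exact Or.inl (by rw [h, zpow_zero])
  · exact Or.inr (Or.inl (by rw [h, zpow_one]))
  · refine Or.inr (Or.inr (eq_inv_of_mul_eq_one_left ?_))
    rw [h, zpow_ofNat, pow_two, D.y3]

/-- the first generator of order three fixes `32` elements of `Q` -/
theorem card_fixed_one (D : YD z Q co y) {t1 t2 a1 a2 : G} (Γ : Gens z Q co y t1 t2 a1 a2) :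
    Nat.card (Q ⊓ Subgroup.centralizer ({t1} : Set G) : Subgroup G) = 32 := by
  have htz := (mem_C0.mp Γ.m1).1
  have hmul := card_range_mul D.H htz Γ.o1
  have e : (Set.range fun q : Q => co (t1 * q * t1⁻¹) ^^^ co q) =
      ((Finset.range 64).image fun v => g1 v ^^^ v : Finset ℕ) := by
    ext n
    simp only [Finset.coe_image, Finset.coe_range, Set.mem_image, Set.mem_Iio, Set.mem_range]
    constructor
    · rintro ⟨⟨q, hq⟩, rfl⟩
      exact ⟨co q, D.H.lt q, by rw [Γ.act1 q hq]⟩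
    · rintro ⟨v, hv, rfl⟩
      obtain ⟨q, hq, rfl⟩ := D.H.surj v hv
      exact ⟨⟨q, hq⟩, by simp only [Γ.act1 q hq]⟩
  rw [e, Nat.card_coe_set_eq, Set.ncard_coe_finset, moved_one,
    show ({0, 5, 11, 14} : Finset ℕ).card = 4 by decide] at hmul
  omega

/-- There is no complement to `⟨y⟩` in its centraliser. -/
theorem y_mem_commutator (D : YD z Q co y) (K : Type*) [Group K] [Finite K] [IsSimpleGroup K]
    (π : Subgroup.centralizer ({y} : Set G) →* K) (hπ : Function.Surjective π)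
    (hker : ∀ c, π c = 1 ↔ (c : G) ∈ Subgroup.zpowers y) (zb : K) (hzb : ∀ h, zb = π ⟨z, h⟩)
    (hraw : ∃ mu, H87.U43.Raw zb mu)
    (hfact : ∀ mu : H87.U43.SL2 × H87.U43.SL2 →* K, H87.U43.Raw zb mu →
      InDer (mu (H87.U43.sX, 1))) :
    y ∈ ⁅Subgroup.centralizer ({y} : Set G), Subgroup.centralizer ({y} : Set G)⁆ ∧
      commutator K = ⊤ := by
  classical
  obtain ⟨mu, R⟩ := hraw
  have H := D.H
  let Cy := Subgroup.centralizer ({y} : Set G)
  have hyc : ∀ {c : G}, c ∈ Cy ↔ Commute c y := fun {c} =>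
    Subgroup.mem_centralizer_singleton_iff
  have hperf : commutator K = ⊤ := by
    refine ((inferInstance : (commutator K).Normal).eq_bot_or_eq_top).resolve_left fun h => ?_
    rw [commutator_def, Subgroup.commutator_eq_bot_iff_le_centralizer] at h
    have hz' : Subgroup.zpowers zb = ⊤ := by
      have : (Subgroup.zpowers zb).Normal := ⟨fun n hn g => by
        rwa [Subgroup.mem_centralizer_iff.mp (h (Subgroup.mem_top g)) n (Subgroup.mem_top n) |>.symm,
          mul_inv_cancel_right]⟩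
      refine this.eq_bot_or_eq_top.resolve_left fun hb => R.z_ne ?_
      rwa [Subgroup.zpowers_eq_bot] at hb
    have hc := R.card_cent
    rw [Subgroup.centralizer_eq_top_iff_subset.mpr (by
      rintro x rfl
      exact Subgroup.mem_center_iff.mpr fun g =>
        (Subgroup.mem_centralizer_iff.mp (h (Subgroup.mem_top g)) x (Subgroup.mem_top x)).symm),
      ← hz', Nat.card_zpowers, R.ord] at hc
    norm_num at hc
  refine ⟨?_, hperf⟩
  by_contra hy
  let U : Subgroup Cy := commutator Cy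
  have hUy : ∀ w ∈ U, (w : G) ∈ Subgroup.zpowers y → w = 1 := by
    intro w hw hwy
    have hw' : (w : G) ∈ ⁅Cy, Cy⁆ := by
      have h : (w : G) ∈ (commutator Cy).map Cy.subtype := ⟨w, hw, rfl⟩
      rwa [commutator_def, Subgroup.map_commutator, ← MonoidHom.range_eq_map,
        Cy.range_subtype] at h
    rcases D.mem_zpowers_cases hwy with e | e | e
    · exact Subtype.ext e
    · exact absurd (by rwa [e] at hw') hy
    · exact absurd (by rw [e] at hw'; exact inv_mem_iff.mp hw') hy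
  have hUmap : U.map π = ⊤ := by
    rw [show U = commutator Cy from rfl, commutator_def, Subgroup.map_commutator,
      Subgroup.map_top_of_surjective _ hπ, ← commutator_def, hperf]
  -- elements of two-power order
  have htwo : ∀ c : Cy, (c : G) ^ 4 = 1 → c ∈ U := by
    intro c hc
    obtain ⟨u, hu, huc⟩ : π c ∈ U.map π := by rw [hUmap]; trivial
    have hm := (hker (u⁻¹ * c)).mp (by rw [map_mul, map_inv, huc, inv_mul_cancel])
    set w := u⁻¹ * c with hw
    have hcu : Commute u w := by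
      refine Subtype.ext ?_
      obtain ⟨k, hk⟩ := hm
      show (u : G) * w = w * u
      rw [← hk]
      exact ((hyc.mp u.2).zpow_right k).eq
    have e4 : (u * w) ^ 4 = 1 := by
      rw [hw, mul_inv_cancel_left]; exact Subtype.ext hc
    rw [hcu.mul_pow] at e4
    have h3 : w ^ 3 = 1 := Subtype.ext (by
      show (w : G) ^ 3 = 1
      rw [pow_three']; exact D.y_pow_eq_one hm)
    have hwU : w ∈ U := by
      rw [pow_succ w 3, h3, one_mul] at e4
      rw [eq_inv_of_mul_eq_one_right e4]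
      exact inv_mem (pow_mem hu 4)
    rw [← mul_inv_cancel_left u c]
    exact mul_mem hu hwU
  obtain ⟨t1, t2, a1, a2, Γ⟩ := D.exists_gens
  obtain ⟨⟨ma1, ma2⟩, ⟨-, ct1, -⟩, -, rel2⟩ := D.gen_facts Γ
  obtain ⟨ht1z, ht1y⟩ := mem_C0.mp Γ.m1
  let T : Cy := ⟨t1, hyc.mpr ht1y⟩
  let T' : Cy := ⟨t2, hyc.mpr (mem_C0.mp Γ.m2).2⟩
  let A : Cy := ⟨a2, hyc.mpr (mem_C0.mp ma2).2⟩
  -- `t1` is a commutator up to an element of order four
  have hTU : T ∈ U := by
    obtain ⟨w, hw, hwi⟩ := inverting_word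
    obtain ⟨c, hc, hca, I⟩ := D.cWord_lift hw
    obtain ⟨hcz, hcy⟩ := mem_C0.mp hc
    simp only [List.all_eq_true, beq_iff_eq] at hwi
    obtain ⟨g1', hg1', I1⟩ := H.exists_act ht1z
    have e1 := H.acts_unique hg1' Γ.act1
    have J1 : IsIso g1 := ⟨fun m hm => by rw [← e1 m hm]; exact I1.lt m hm,
      fun m hm => by rw [← e1 m hm]; exact I1.form m hm,
      fun m hm n hn => by rw [← e1 m hm, ← e1 n hn, ← e1 _ (xlt hm hn)]; exact I1.add m hm n hn⟩
    have hq : c * t1 * c⁻¹ * t1⁻¹ * t1⁻¹ ∈ Q := by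
      have h1 : Acts Q co (c * t1) (fun v => actW w (g1 v)) := H.acts_mul ht1z hca Γ.act1
      have h2 : Acts Q co (t1 * t1 * c) (fun v => g1 (g1 (actW w v))) :=
        H.acts_congr (H.acts_mul hcz (H.acts_mul ht1z Γ.act1 Γ.act1) hca) fun _ _ => rfl
      have h3 := H.mem_of_acts_eq ((ht1z.mul_left ht1z).mul_left hcz) (hcz.mul_left ht1z) h2
        (H.acts_congr h1 fun v hv => ext64 (I.comp J1) ((J1.comp J1).comp I) hwi v hv)
      have h4 := H.nor (t1 * t1 * c) ((ht1z.mul_left ht1z).mul_left hcz).eq _ h3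
      rwa [show t1 * t1 * c * ((t1 * t1 * c)⁻¹ * (c * t1)) * (t1 * t1 * c)⁻¹ =
        c * t1 * c⁻¹ * t1⁻¹ * t1⁻¹ by group] at h4
    let cC : Cy := ⟨c, hyc.mpr hcy⟩
    have hcom : cC * T * cC⁻¹ * T⁻¹ ∈ U := by
      rw [show cC * T * cC⁻¹ * T⁻¹ = ⁅cC, T⁆ from rfl]
      exact Subgroup.commutator_mem_commutator (Subgroup.mem_top _) (Subgroup.mem_top _)
    have hqU : cC * T * cC⁻¹ * T⁻¹ * T⁻¹ ∈ U := htwo _ (q_four H hq)
    have h := mul_mem (inv_mem hqU) hcom
    rwa [show (cC * T * cC⁻¹ * T⁻¹ * T⁻¹)⁻¹ * (cC * T * cC⁻¹ * T⁻¹) = T by group] at h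
  -- the image is in the derived subgroup of its centraliser
  let zC : Cy := ⟨z, hyc.mpr D.yz.symm⟩
  have hzb' : zb = π zC := hzb zC.2
  have comm : ∀ {c d : Cy}, Commute (c : G) d → Commute (π c) (π d) := fun {c d} h => by
    show π c * π d = π d * π c
    rw [← map_mul, ← map_mul, show c * d = d * c from Subtype.ext h.eq]
  have hodd : ∀ c : Cy, (c : G) * c * c = 1 → Commute (c : G) z → π c ∈ mu.range := by
    intro c hc hcz
    refine odd_mem_range R (by rw [hzb']; exact comm (c := c) (d := zC) hcz) ?_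
    refine Odd.of_dvd_nat (by decide : Odd 3) (orderOf_dvd_of_pow_eq_one ?_)
    rw [← map_pow, show c ^ 3 = 1 from Subtype.ext (by show (c : G) ^ 3 = 1; rw [pow_three']; exact hc),
      map_one]
  have hAr : π A ∈ mu.range := by
    have hT' := hodd T' Γ.o2 (mem_C0.mp Γ.m2).1
    have hat : π (A * T' * A⁻¹) ∈ mu.range := hodd _ (by
      show (a2 * t2 * a2⁻¹) * (a2 * t2 * a2⁻¹) * (a2 * t2 * a2⁻¹) = 1
      rw [show (a2 * t2 * a2⁻¹) * (a2 * t2 * a2⁻¹) * (a2 * t2 * a2⁻¹) =
        a2 * (t2 * t2 * t2) * a2⁻¹ by group, Γ.o2]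
      group) (((H.comm_z Γ.q2).mul_left (mem_C0.mp Γ.m2).1).mul_left (H.comm_z Γ.q2).inv_left)
    have h := mul_mem (mul_mem hT' (mul_mem hat (inv_mem hT'))) (inv_mem hT')
    simp only [← map_inv, ← map_mul] at h
    rw [show T' * (A * T' * A⁻¹ * T'⁻¹) * T'⁻¹ = A⁻¹ from Subtype.ext (by
      show t2 * (a2 * t2 * a2⁻¹ * t2⁻¹) * t2⁻¹ = a2⁻¹
      rw [show t2 * (a2 * t2 * a2⁻¹ * t2⁻¹) * t2⁻¹ =
        t2 * a2 * t2⁻¹ * (t2 * (t2 * a2 * t2⁻¹) * t2⁻¹)⁻¹ by group, rel2.2.2.2.2.2]
      group), map_inv] at h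
    exact inv_mem_iff.mp h
  have hT1 : π T ≠ 1 := by
    intro h
    have h' := (hker T).mp h
    have := D.card_fixed_one Γ
    rcases D.mem_zpowers_cases h' with e | e | e
    · have hact := H.acts_unique Γ.act1 (g := g1) (h := id)
        (by rw [show t1 = 1 from e]; exact H.acts_one) 5 (by norm_num)
      exact absurd hact (by decide)
    · have hact := H.acts_unique Γ.act1 (h := g0) (by rw [show t1 = y from e]; exact D.act)
        5 (by norm_num)
      exact absurd hact (by decide)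
    · have hy2 : t1 = y * y := by
        rw [show t1 = y⁻¹ from e]; exact inv_eq_of_mul_eq_one_right (by rw [← mul_assoc]; exact D.y3)
      have hact := H.acts_unique Γ.act1 (h := fun v => g0 (g0 v))
        (by rw [hy2]; exact H.acts_mul D.yz D.act D.act) 5 (by norm_num)
      exact absurd hact (by decide)
  have hder : InDer (π T) := by
    refine inDer_of_comm hfact R (hodd T Γ.o1 ht1z) hAr ?_ hT1 ?_ (comm (c := T) (d := A) ct1)
    · rw [← map_pow, show T ^ 3 = 1 from Subtype.ext (by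
        show t1 ^ 3 = 1; rw [pow_three']; exact Γ.o1), map_one]
    · rw [hzb', ← map_mul]
      exact congrArg π (Subtype.ext (H.sq_z Γ.q2 (by rw [Γ.c2]; rfl)))
  -- pulling back
  let P := (Subgroup.centralizer ({π T} : Set K)).comap π
  obtain ⟨w, hw, hwT⟩ : π T ∈ ⁅P, P⁆.map π := by
    rw [Subgroup.map_commutator, Subgroup.map_comap_eq_self_of_surjective hπ]
    exact hder
  have hPT : P ≤ Subgroup.centralizer ({T} : Set Cy) := by
    intro c hc
    have hm : π (c * T * c⁻¹ * T⁻¹) = 1 := by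
      rw [map_mul, map_mul, map_mul, map_inv, map_inv,
        Subgroup.mem_centralizer_singleton_iff.mp hc]
      group
    have h1 : c * T * c⁻¹ * T⁻¹ = 1 := hUy _ (by
      rw [show c * T * c⁻¹ * T⁻¹ = ⁅c, T⁆ from rfl]
      exact Subgroup.commutator_mem_commutator (Subgroup.mem_top _) (Subgroup.mem_top _))
      ((hker _).mp hm)
    rw [mul_inv_eq_one, mul_inv_eq_iff_eq_mul] at h1
    exact Subgroup.mem_centralizer_singleton_iff.mpr h1
  have hwU : w ∈ U := Subgroup.commutator_mono le_top le_top hw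
  have hweq : w = T := inv_mul_eq_one.mp (hUy (w⁻¹ * T) (mul_mem (inv_mem hwU) hTU)
    ((hker _).mp (by rw [map_mul, map_inv, hwT, inv_mul_cancel])))
  subst hweq
  have hder1 : InDer t1 := by
    have hle : P.map Cy.subtype ≤ Subgroup.centralizer ({t1} : Set G) := by
      rintro _ ⟨c, hc, rfl⟩
      exact Subgroup.mem_centralizer_singleton_iff.mpr
        (congrArg Subtype.val (Subgroup.mem_centralizer_singleton_iff.mp (hPT hc)))
    have h := Subgroup.mem_map_of_mem Cy.subtype hw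
    rw [Subgroup.map_commutator] at h
    exact Subgroup.commutator_mono hle hle h
  obtain ⟨g, -, hg⟩ := D.conj_of_fixed ht1z Γ.o1 (D.card_fixed_one Γ)
  have := hder1.conj g⁻¹
  rw [show g⁻¹ * t1 * g⁻¹⁻¹ = y by rw [← hg]; group] at this
  exact hy this

end YD

end H95.SuzY
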