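import Cfsg.Agent.H95.SuzY.Tables
import Cfsg.Agent.H73.Suz.Setup
import Cfsg.Agent.H73.Suz.Classes

/-!
Elements of order three of the centraliser of `z` moving a plane of `Q/⟨z⟩`: after a change of
coordinates they act by the standard element.
-/

set_option autoImplicit false
set_option maxRecDepth 10000

namespace H95.SuzY

open H73.Suz

/-- two isometries agreeing on the unit vectors agree -/
theorem ext64 {g h : ℕ → ℕ} (I : IsIso g) (J : IsIso h)
    (e : ∀ v ∈ [1, 2, 4, 8, 16, 32], g v = h v) : ∀ v < 64, g v = h v := by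
  have step : ∀ a < 64, ∀ b < 64, g a = h a → g b = h b → g (a ^^^ b) = h (a ^^^ b) := by
    intro a ha b hb h1 h2
    rw [I.add a ha b hb, J.add a ha b hb, h1, h2]
  have hrec : ∀ k ≤ 6, ∀ v < 2 ^ k, g v = h v := by
    intro k
    induction k with
    | zero =>
      intro _ v hv
      obtain rfl : v = 0 := by omega
      rw [I.zero, J.zero]
    | succ k ih =>
      intro hk v hv
      have hk' : k < 6 := hk
      have hp : 2 ^ k < 64 := lt_of_lt_of_le (Nat.pow_lt_pow_right (by norm_num) hk') le_rfl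
      by_cases hvk : v < 2 ^ k
      · exact ih (by omega) v hvk
      · have hu : v ^^^ 2 ^ k < 2 ^ k := by
          refine Nat.lt_pow_two_of_testBit _ fun i hi => ?_
          rw [Nat.testBit_xor, Nat.testBit_two_pow]
          rcases Nat.lt_or_eq_of_le hi with hlt | rfl
          · rw [Nat.testBit_lt_two_pow (lt_of_lt_of_le hv (Nat.pow_le_pow_right (by norm_num) hlt))]
            simp [Nat.ne_of_lt hlt]
          · have : v.testBit k = true := Nat.testBit_of_two_pow_le_and_two_pow_add_one_gt (by omega) hv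
            simp [this]
        have he : g (2 ^ k) = h (2 ^ k) := e _ (by interval_cases k <;> simp)
        rw [← xor_cancel v (2 ^ k)]
        exact step _ (lt_of_lt_of_le hu hp.le) _ hp (ih (by omega) _ hu) he
  exact fun v hv => hrec 6 le_rfl v (by simpa using hv)

theorem isIso_id : IsIso (id : ℕ → ℕ) := ⟨fun _ h => h, fun _ _ => rfl, fun _ _ _ _ => rfl⟩

variable {G : Type*} [Group G] [Finite G] {z : G} {Q : Subgroup G} {co : G → ℕ}

theorem exists_pair_iso (H : Data z Q co) {a b : ℕ} (ha : a < 64) (haq : qb a = true)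
    (hb : b < 64) (hbq : qb b = true) :
    ∃ c, Commute c z ∧ Acts Q co c (tp a b) ∧ IsIso (tp a b) := by
  obtain ⟨c, hc, hg⟩ := H.pair a ha haq b hb hbq
  obtain ⟨g, hg', I⟩ := H.exists_act hc
  have e := H.acts_unique hg' hg
  refine ⟨c, hc, hg, ⟨fun m hm => ?_, fun m hm => ?_, fun m hm n hn => ?_⟩⟩
  · rw [← e m hm]; exact I.lt m hm
  · rw [← e m hm]; exact I.form m hm
  · rw [← e m hm, ← e n hn, ← e _ (xlt hm hn)]; exact I.add m hm n hn

/-- coordinates read through an element of the centraliser -/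
theorem data_conj (H : Data z Q co) {c : G} (hc : Commute c z) :
    Data z Q fun q => co (c * q * c⁻¹) := by
  obtain ⟨h, hh, I⟩ := H.exists_act hc
  obtain ⟨h', hh', I'⟩ := H.exists_act hc.inv_left
  have hin : ∀ q ∈ Q, c * q * c⁻¹ ∈ Q := H.nor c hc.eq
  have hout : ∀ q ∈ Q, c⁻¹ * q * c ∈ Q := fun q hq => by
    simpa using H.nor c⁻¹ hc.inv_left.eq q hq
  refine
    { hz := H.hz, pre := H.pre, hcen := H.hcen, nor := H.nor, card := H.card, nwc := H.nwc
      lt := fun a => H.lt _
      mul := fun a ha b hb => ?_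
      ker := fun a ha h0 => ?_
      surj := fun n hn => ?_
      coz := ?_
      sq := fun a ha => ?_
      faithful := fun d hd hact => ?_
      pair := fun a ha haq b hb hbq => ?_
      axis := fun d hd hdQ hd2 => ?_ }
  · rw [← H.mul _ (hin a ha) _ (hin b hb)]; congr 1; group
  · rcases H.ker _ (hin a ha) h0 with e | e
    · exact Or.inl (conj_eq_one_iff.mp e)
    · refine Or.inr ?_
      have : a = c⁻¹ * (c * a * c⁻¹) * c := by group
      rw [this, e, mul_assoc, ← hc.eq, inv_mul_cancel_left]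
  · obtain ⟨x, hx, rfl⟩ := H.surj n hn
    exact ⟨c⁻¹ * x * c, hout x hx, by congr 1; group⟩
  · show co (c * z * c⁻¹) = 0
    rw [H.conj_z hc, H.coz]
  · have e := H.sq _ (hin a ha)
    rw [show c * a * c⁻¹ * (c * a * c⁻¹) = c * (a * a) * c⁻¹ by group] at e
    have : a * a = c⁻¹ * (c * (a * a) * c⁻¹) * c := by group
    rw [this, e]
    split
    · rw [mul_assoc, ← hc.eq, inv_mul_cancel_left]
    · rw [mul_one, inv_mul_cancel]
  · have h1 : c * d * c⁻¹ ∈ Q := H.faithful _ ((hc.mul_left hd).mul_left hc.inv_left) fun q hq => by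
      have := hact (c⁻¹ * q * c) (hout q hq)
      simp only [id] at this
      rw [show c * (c⁻¹ * q * c) * c⁻¹ = q by group] at this
      rw [show c * d * c⁻¹ * q * (c * d * c⁻¹)⁻¹ = c * (d * (c⁻¹ * q * c) * d⁻¹) * c⁻¹ by group]
      exact this
    simpa [mul_assoc] using hout _ h1
  · obtain ⟨x, hx, hxa⟩ := H.pair a ha haq b hb hbq
    refine ⟨c⁻¹ * x * c, (hc.inv_left.mul_left hx).mul_left hc, fun q hq => ?_⟩
    rw [← hxa _ (hin q hq)]; congr 1; group
  · have hd' : Commute (c * d * c⁻¹) z := (hc.mul_left hd).mul_left hc.inv_left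
    obtain ⟨s, hs, hs0, hsq, hfix, hmove⟩ := H.axis (c * d * c⁻¹) hd'
      (fun h => hdQ (by simpa [mul_assoc] using hout _ h))
      (by rw [show c * d * c⁻¹ * (c * d * c⁻¹) = c * (d * d) * c⁻¹ by group]; exact hin _ hd2)
    refine ⟨s, hs, hs0, hsq, fun q hq e => ?_, fun q hq e => ?_⟩
    · rw [← hfix _ (hin q hq) e]; congr 1; group
    · rw [show c * (d * q * d⁻¹) * c⁻¹ = c * d * c⁻¹ * (c * q * c⁻¹) * (c * d * c⁻¹)⁻¹ by group]
      exact hmove _ (hin q hq) e

/-- A plane is normalised. -/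
theorem exists_norm (H : Data z Q co) {a b : ℕ} (ha : a < 64) (haq : qb a = true) (hb : b < 64)
    (hbq : qb b = true) (hab : Bb a b = true) :
    ∃ c h, Commute c z ∧ Acts Q co c h ∧ IsIso h ∧ h 16 = a ∧ h 32 = b := by
  obtain ⟨p, hp, hpq, r, hr, hrq, e16⟩ := to_sixteen a ha haq
  obtain ⟨c₁, hc₁, hg₁, I₁⟩ := exists_pair_iso H hp hpq hr hrq
  obtain ⟨c₁', hc₁', hg₁', I₁'⟩ := exists_pair_iso H hr hrq hp hpq
  have hinv : ∀ v < 64, tp r p (tp p r v) = v :=
    ext64 (I₁'.comp I₁) isIso_id fun v hv => tp_inv p hp hpq r hr hrq v hv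
  have hinv' : ∀ v < 64, tp p r (tp r p v) = v :=
    ext64 (I₁.comp I₁') isIso_id fun v hv => tp_inv r hr hrq p hp hpq v hv
  have hq : qb (tp r p b) = true := by rw [I₁'.form b hb]; exact hbq
  have hB : Bb 16 (tp r p b) = true := by
    rw [← hinv 16 (by norm_num), e16, I₁'.map_B ha hb]; exact hab
  obtain ⟨p', hp', hpq', r', hr', hrq', f16, f32⟩ := to_thirtyTwo _ (I₁'.lt b hb) hq hB
  obtain ⟨c₂, hc₂, hg₂, I₂⟩ := exists_pair_iso H hp' hpq' hr' hrq'
  exact ⟨c₁ * c₂, _, hc₁.mul_left hc₂, H.acts_mul hc₂ hg₁ hg₂, I₁.comp I₂,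
    by simp only [f16, e16], by simp only [f32]; exact hinv' b hb⟩

/-- An element of order three moving only a plane acts, in suitable coordinates, by the standard
element or its square. -/
theorem exists_std (H : Data z Q co) {y : G} (hy : Commute y z) (hy3 : y * y * y = 1)
    (hW : Nat.card (Set.range fun q : Q => co (y * q * y⁻¹) ^^^ co q) = 4) :
    ∃ c, Commute c z ∧ Acts Q (fun q => co (c * q * c⁻¹)) y g0 := by
  classical
  obtain ⟨g, hg, I⟩ := H.exists_act hy
  let W : Finset ℕ := (Finset.range 64).image fun v => g v ^^^ v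
  have hWc : W.card = 4 := by
    rw [← hW, Nat.card_coe_set_eq, ← Set.ncard_coe_finset]
    congr 1; ext n
    simp only [W, Finset.coe_image, Finset.coe_range, Set.mem_image, Set.mem_Iio, Set.mem_range]
    constructor
    · rintro ⟨v, hv, rfl⟩
      obtain ⟨q, hq, rfl⟩ := H.surj v hv
      exact ⟨⟨q, hq⟩, by show co (y * q * y⁻¹) ^^^ co q = _; rw [hg q hq]⟩
    · rintro ⟨⟨q, hq⟩, rfl⟩
      exact ⟨co q, H.lt q, by rw [hg q hq]⟩
  have g3 : ∀ v < 64, g (g (g v)) = v := by
    intro v hv
    have h := H.acts_unique (H.acts_mul hy (H.acts_mul hy hg hg) hg)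
      (by rw [hy3]; exact H.acts_one) v hv
    exact h
  have mem : ∀ v < 64, g v ^^^ v ∈ W := fun v hv =>
    Finset.mem_image.mpr ⟨v, Finset.mem_range.mpr hv, rfl⟩
  have nofix : ∀ w ∈ W, g w = w → w = 0 := by
    intro w hw hfix
    obtain ⟨v, hv, rfl⟩ := Finset.mem_image.mp hw
    have hv' := Finset.mem_range.mp hv
    have e : g (g v) ^^^ g v = g v ^^^ v := by rw [← I.add _ (I.lt v hv') v hv']; exact hfix
    have e1 : g (g v) = v := by
      have := congrArg (· ^^^ g v) e
      simp only [xor_cancel] at this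
      rw [this, Nat.xor_comm, ← Nat.xor_assoc, Nat.xor_self, Nat.zero_xor]
    have e2 : g v = v := by conv_rhs => rw [← g3 v hv', e1]
    rw [e2, Nat.xor_self]
  have gW : ∀ w ∈ W, g w ∈ W := by
    intro w hw
    obtain ⟨v, hv, rfl⟩ := Finset.mem_image.mp hw
    have hv' := Finset.mem_range.mp hv
    rw [I.add _ (I.lt v hv') v hv']
    exact mem _ (I.lt v hv')
  have Wxor : ∀ v ∈ W, ∀ w ∈ W, v ^^^ w ∈ W := by
    intro v hv w hw
    obtain ⟨m, hm, rfl⟩ := Finset.mem_image.mp hv
    obtain ⟨n, hn, rfl⟩ := Finset.mem_image.mp hw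
    have hm' := Finset.mem_range.mp hm
    have hn' := Finset.mem_range.mp hn
    have e : g (m ^^^ n) ^^^ (m ^^^ n) = (g m ^^^ m) ^^^ (g n ^^^ n) := by
      rw [I.add m hm' n hn']
      simp only [Nat.xor_assoc, Nat.xor_left_comm, Nat.xor_comm]
    rw [← e]
    exact mem _ (xlt hm' hn')
  have hgg2 : ∀ u < 64, g (g u) ^^^ u ∈ W := by
    intro u hu
    have e : g (g u) ^^^ u = (g (g u) ^^^ g u) ^^^ (g u ^^^ u) := by
      rw [← Nat.xor_assoc, xor_cancel]
    rw [e]
    exact Wxor _ (mem (g u) (I.lt u hu)) _ (mem u hu)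
  have W0 : 0 ∈ W := by simpa [I.zero] using mem 0 (by norm_num)
  have Wlt : ∀ w ∈ W, w < 64 := by
    intro w hw
    obtain ⟨v, hv, rfl⟩ := Finset.mem_image.mp hw
    exact xlt (I.lt v (Finset.mem_range.mp hv)) (Finset.mem_range.mp hv)
  obtain ⟨a, haW, ha0⟩ : ∃ a ∈ W, a ≠ 0 := Finset.exists_mem_ne (by omega) 0
  have ha := Wlt a haW
  have hga : g a ≠ a := fun h => ha0 (nofix a haW h)
  have hga0 : g a ≠ 0 := fun h => ha0 (by rw [← g3 a ha, h, I.zero, I.zero])
  have habW : g a ^^^ a ∈ W := mem a ha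
  have hne : g a ^^^ a ≠ 0 ∧ g a ^^^ a ≠ a ∧ g a ^^^ a ≠ g a := by
    refine ⟨fun h => hga (xor_eq_zero h), fun h => hga0 ?_, fun h => ha0 ?_⟩
    · have := congrArg (· ^^^ a) h
      simpa [xor_cancel] using this
    · have := congrArg (g a ^^^ ·) h
      simpa [← Nat.xor_assoc] using this
  have hall : ({0, a, g a, g a ^^^ a} : Finset ℕ) = W := by
    refine Finset.eq_of_subset_of_card_le ?_ ?_
    · intro w hw
      simp only [Finset.mem_insert, Finset.mem_singleton] at hw
      rcases hw with rfl | rfl | rfl | rfl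
      exacts [W0, haW, gW a haW, habW]
    · rw [hWc, Finset.card_insert_of_notMem (by simp [ha0.symm, hga0.symm, hne.1.symm]),
        Finset.card_insert_of_notMem (by simp [hga.symm, hne.2.1.symm]),
        Finset.card_insert_of_notMem (by simp [hne.2.2.symm]), Finset.card_singleton]
  have hgg : g (g a) = g a ^^^ a := by
    have h := gW _ (gW a haW)
    rw [← hall] at h
    simp only [Finset.mem_insert, Finset.mem_singleton] at h
    rcases h with h | h | h | h
    · exact absurd (((g3 a ha).symm.trans (congrArg g h)).trans I.zero) ha0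
    · exact absurd ((congrArg g h).symm.trans (g3 a ha)) hga
    · exact absurd (nofix _ (gW a haW) h) hga0
    · exact h
  have adj : ∀ v < 64, ∀ u < 64, Bb (g v ^^^ v) u = Bb v (g (g u) ^^^ u) := by
    intro v hv u hu
    rw [Bb_add_left (I.lt v hv) hv hu, Bb_add_right (I.lt _ (I.lt u hu)) hu hv]
    rw [← I.map_B hv (I.lt _ (I.lt u hu)), g3 u hu]
  have hgb := I.lt a ha
  have hqg := I.form a ha
  have hBq : Bb a (g a) = qb a := by
    have h := qb_add a (g a)
    rw [Nat.xor_comm, ← hgg, I.form _ hgb, hqg] at h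
    revert h; cases qb a <;> cases Bb a (g a) <;> simp
  have haq : qb a = true := by
    by_contra hq
    rw [Bool.not_eq_true] at hq
    rw [hq] at hBq
    -- the plane would be totally isotropic, hence fixed
    have hiso : ∀ w ∈ W, Bb a w = false := by
      intro w hw
      rw [← hall] at hw
      simp only [Finset.mem_insert, Finset.mem_singleton] at hw
      rcases hw with rfl | rfl | rfl | rfl
      · rw [Bb_comm, Bb_zero_left]
      · exact Bb_self _
      · exact hBq
      · rw [Bb_add_right hgb ha ha, hBq, Bb_self]; rfl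
    refine hne.1 ?_
    by_contra h0
    obtain ⟨u, hu, hB⟩ := Bb_nondeg _ (xlt hgb ha) h0
    rw [adj a ha u hu, hiso _ (hgg2 u hu)] at hB
    simp at hB
  rw [haq] at hBq
  obtain ⟨c, h, hc, hh, J, h16, h32⟩ := exists_norm H ha haq hgb (hqg.trans haq) hBq
  obtain ⟨h', hh', J'⟩ := H.exists_act hc.inv_left
  have inv1 : ∀ v < 64, h' (h v) = v := fun v hv =>
    H.acts_unique (H.acts_mul hc hh' hh) (by rw [inv_mul_cancel]; exact H.acts_one) v hv
  have inv2 : ∀ v < 64, h (h' v) = v := fun v hv =>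
    H.acts_unique (H.acts_mul hc.inv_left hh hh') (by rw [mul_inv_cancel]; exact H.acts_one) v hv
  have e16 : h' (g (h 16)) = 32 := by rw [h16, ← h32, inv1 32 (by norm_num)]
  have e32 : h' (g (h 32)) = 48 := by
    rw [h32, hgg, ← h32, ← h16, ← J.add 32 (by norm_num) 16 (by norm_num), inv1 _ (by decide)]
    rfl
  have low : ∀ v ∈ [1, 2, 4, 8], h' (g (h v)) = v := by
    intro v hv
    have hv64 : v < 64 := by
      simp only [List.mem_cons, List.not_mem_nil, or_false] at hv
      omega
    have hperp : Bb (h v) a = false ∧ Bb (h v) (g a) = false := by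
      rw [← h32, ← h16, J.map_B hv64 (by norm_num), J.map_B hv64 (by norm_num)]
      revert v; decide
    have hWv : ∀ w ∈ W, Bb (h v) w = false := by
      intro w hw
      rw [← hall] at hw
      simp only [Finset.mem_insert, Finset.mem_singleton] at hw
      rcases hw with rfl | rfl | rfl | rfl
      · rw [Bb_comm, Bb_zero_left]
      · exact hperp.1
      · exact hperp.2
      · rw [Bb_add_right hgb ha (J.lt v hv64), hperp.1, hperp.2]; rfl
    have hfx : g (h v) ^^^ h v = 0 := by
      by_contra h0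
      obtain ⟨u, hu, hB⟩ := Bb_nondeg _ (xlt (I.lt _ (J.lt v hv64)) (J.lt v hv64)) h0
      rw [adj _ (J.lt v hv64) u hu] at hB
      have hm := hgg2 u hu
      rw [hWv _ hm] at hB
      simp at hB
    rw [xor_eq_zero hfx, inv1 v hv64]
  have J0 : IsIso (tp 16 32) := (exists_pair_iso H (by norm_num) (by rfl) (by norm_num) (by rfl)).elim
    fun _ p => p.2.2
  have eqg : ∀ v < 64, h' (g (h v)) = tp 16 32 v := by
    refine ext64 (J'.comp (I.comp J)) J0 fun v hv => ?_
    simp only [List.mem_cons, List.not_mem_nil, or_false] at hv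
    rcases hv with rfl | rfl | rfl | rfl | rfl | rfl
    · rw [low 1 (by simp)]; decide
    · rw [low 2 (by simp)]; decide
    · rw [low 4 (by simp)]; decide
    · rw [low 8 (by simp)]; decide
    · rw [e16]; decide
    · rw [e32]; decide
  refine ⟨c⁻¹, hc.inv_left, fun q hq => ?_⟩
  have hq' : c⁻¹ * q * c ∈ Q := by simpa using H.nor c⁻¹ hc.inv_left.eq q hq
  show co (c⁻¹ * (y * q * y⁻¹) * c⁻¹⁻¹) = tp 16 32 (co (c⁻¹ * q * c⁻¹⁻¹))
  rw [← eqg _ (H.lt _), inv_inv]
  rw [← hh _ hq', show c * (c⁻¹ * q * c) * c⁻¹ = q by group, ← hg q hq,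
    ← hh' _ (H.nor y hy.eq q hq), inv_inv]

end H95.SuzY
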