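import Cfsg.Agent.H73.Suz.Bits

/-!
Tables for the centraliser of the standard element of order three in the elliptic space of
dimension six over two elements.
-/

set_option autoImplicit false
set_option maxRecDepth 10000
set_option synthInstance.maxSize 4000
set_option synthInstance.maxHeartbeats 200000

namespace H95.SuzY

open H73.Suz

/-- the standard element of order three -/
abbrev g0 : ℕ → ℕ := tp 16 32

/-- its two companions on the orthogonal planes -/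
abbrev g1 : ℕ → ℕ := tp 5 11

/-- its two companions on the orthogonal planes -/
abbrev g2 : ℕ → ℕ := tp 7 10

/-- action of a word of pairs -/
def actW (w : List (ℕ × ℕ)) (v : ℕ) : ℕ := w.foldr (fun p u => tp p.1 p.2 u) v

/-- the images of a basis -/
def key (g : ℕ → ℕ) : ℕ × ℕ × ℕ × ℕ × ℕ := (g 1, g 2, g 4, g 8, g 16)

/-- the words -/
def cWords : List (List (ℕ × ℕ)) := [
  [],
  [(7, 10)],
  [(7, 10), (7, 10)],
  [(5, 11)],
  [(5, 11), (7, 10)],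
  [(5, 11), (7, 10), (7, 10)],
  [(5, 11), (5, 11)],
  [(5, 11), (5, 11), (7, 10)],
  [(5, 11), (5, 11), (7, 10), (7, 10)],
  [(16, 32)],
  [(16, 32), (7, 10)],
  [(16, 32), (7, 10), (7, 10)],
  [(16, 32), (5, 11)],
  [(16, 32), (5, 11), (7, 10)],
  [(16, 32), (5, 11), (7, 10), (7, 10)],
  [(16, 32), (5, 11), (5, 11)],
  [(16, 32), (5, 11), (5, 11), (7, 10)],
  [(16, 32), (5, 11), (5, 11), (7, 10), (7, 10)],
  [(16, 32), (16, 32)],
  [(16, 32), (16, 32), (7, 10)],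
  [(16, 32), (16, 32), (7, 10), (7, 10)],
  [(16, 32), (16, 32), (5, 11)],
  [(16, 32), (16, 32), (5, 11), (7, 10)],
  [(16, 32), (16, 32), (5, 11), (7, 10), (7, 10)],
  [(16, 32), (16, 32), (5, 11), (5, 11)],
  [(16, 32), (16, 32), (5, 11), (5, 11), (7, 10)],
  [(16, 32), (16, 32), (5, 11), (5, 11), (7, 10), (7, 10)],
  [(5, 7)],
  [(7, 10), (5, 7)],
  [(7, 10), (7, 10), (5, 7)],
  [(5, 11), (5, 7)],
  [(5, 11), (7, 10), (5, 7)],
  [(5, 11), (7, 10), (7, 10), (5, 7)],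
  [(5, 11), (5, 11), (5, 7)],
  [(5, 11), (5, 11), (7, 10), (5, 7)],
  [(5, 11), (5, 11), (7, 10), (7, 10), (5, 7)],
  [(16, 32), (5, 7)],
  [(16, 32), (7, 10), (5, 7)],
  [(16, 32), (7, 10), (7, 10), (5, 7)],
  [(16, 32), (5, 11), (5, 7)],
  [(16, 32), (5, 11), (7, 10), (5, 7)],
  [(16, 32), (5, 11), (7, 10), (7, 10), (5, 7)],
  [(16, 32), (5, 11), (5, 11), (5, 7)],
  [(16, 32), (5, 11), (5, 11), (7, 10), (5, 7)],
  [(16, 32), (5, 11), (5, 11), (7, 10), (7, 10), (5, 7)],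
  [(16, 32), (16, 32), (5, 7)],
  [(16, 32), (16, 32), (7, 10), (5, 7)],
  [(16, 32), (16, 32), (7, 10), (7, 10), (5, 7)],
  [(16, 32), (16, 32), (5, 11), (5, 7)],
  [(16, 32), (16, 32), (5, 11), (7, 10), (5, 7)],
  [(16, 32), (16, 32), (5, 11), (7, 10), (7, 10), (5, 7)],
  [(16, 32), (16, 32), (5, 11), (5, 11), (5, 7)],
  [(16, 32), (16, 32), (5, 11), (5, 11), (7, 10), (5, 7)],
  [(16, 32), (16, 32), (5, 11), (5, 11), (7, 10), (7, 10), (5, 7)],
  [(16, 17), (18, 19)],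
  [(7, 10), (16, 17), (18, 19)],
  [(7, 10), (7, 10), (16, 17), (18, 19)],
  [(5, 11), (16, 17), (18, 19)],
  [(5, 11), (7, 10), (16, 17), (18, 19)],
  [(5, 11), (7, 10), (7, 10), (16, 17), (18, 19)],
  [(5, 11), (5, 11), (16, 17), (18, 19)],
  [(5, 11), (5, 11), (7, 10), (16, 17), (18, 19)],
  [(5, 11), (5, 11), (7, 10), (7, 10), (16, 17), (18, 19)],
  [(16, 32), (16, 17), (18, 19)],
  [(16, 32), (7, 10), (16, 17), (18, 19)],
  [(16, 32), (7, 10), (7, 10), (16, 17), (18, 19)],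
  [(16, 32), (5, 11), (16, 17), (18, 19)],
  [(16, 32), (5, 11), (7, 10), (16, 17), (18, 19)],
  [(16, 32), (5, 11), (7, 10), (7, 10), (16, 17), (18, 19)],
  [(16, 32), (5, 11), (5, 11), (16, 17), (18, 19)],
  [(16, 32), (5, 11), (5, 11), (7, 10), (16, 17), (18, 19)],
  [(16, 32), (5, 11), (5, 11), (7, 10), (7, 10), (16, 17), (18, 19)],
  [(16, 32), (16, 32), (16, 17), (18, 19)],
  [(16, 32), (16, 32), (7, 10), (16, 17), (18, 19)],
  [(16, 32), (16, 32), (7, 10), (7, 10), (16, 17), (18, 19)],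
  [(16, 32), (16, 32), (5, 11), (16, 17), (18, 19)],
  [(16, 32), (16, 32), (5, 11), (7, 10), (16, 17), (18, 19)],
  [(16, 32), (16, 32), (5, 11), (7, 10), (7, 10), (16, 17), (18, 19)],
  [(16, 32), (16, 32), (5, 11), (5, 11), (16, 17), (18, 19)],
  [(16, 32), (16, 32), (5, 11), (5, 11), (7, 10), (16, 17), (18, 19)],
  [(16, 32), (16, 32), (5, 11), (5, 11), (7, 10), (7, 10), (16, 17), (18, 19)],
  [(5, 7), (16, 17), (18, 19)],
  [(7, 10), (5, 7), (16, 17), (18, 19)],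
  [(7, 10), (7, 10), (5, 7), (16, 17), (18, 19)],
  [(5, 11), (5, 7), (16, 17), (18, 19)],
  [(5, 11), (7, 10), (5, 7), (16, 17), (18, 19)],
  [(5, 11), (7, 10), (7, 10), (5, 7), (16, 17), (18, 19)],
  [(5, 11), (5, 11), (5, 7), (16, 17), (18, 19)],
  [(5, 11), (5, 11), (7, 10), (5, 7), (16, 17), (18, 19)],
  [(5, 11), (5, 11), (7, 10), (7, 10), (5, 7), (16, 17), (18, 19)],
  [(16, 32), (5, 7), (16, 17), (18, 19)],
  [(16, 32), (7, 10), (5, 7), (16, 17), (18, 19)],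
  [(16, 32), (7, 10), (7, 10), (5, 7), (16, 17), (18, 19)],
  [(16, 32), (5, 11), (5, 7), (16, 17), (18, 19)],
  [(16, 32), (5, 11), (7, 10), (5, 7), (16, 17), (18, 19)],
  [(16, 32), (5, 11), (7, 10), (7, 10), (5, 7), (16, 17), (18, 19)],
  [(16, 32), (5, 11), (5, 11), (5, 7), (16, 17), (18, 19)],
  [(16, 32), (5, 11), (5, 11), (7, 10), (5, 7), (16, 17), (18, 19)],
  [(16, 32), (5, 11), (5, 11), (7, 10), (7, 10), (5, 7), (16, 17), (18, 19)],
  [(16, 32), (16, 32), (5, 7), (16, 17), (18, 19)],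
  [(16, 32), (16, 32), (7, 10), (5, 7), (16, 17), (18, 19)],
  [(16, 32), (16, 32), (7, 10), (7, 10), (5, 7), (16, 17), (18, 19)],
  [(16, 32), (16, 32), (5, 11), (5, 7), (16, 17), (18, 19)],
  [(16, 32), (16, 32), (5, 11), (7, 10), (5, 7), (16, 17), (18, 19)],
  [(16, 32), (16, 32), (5, 11), (7, 10), (7, 10), (5, 7), (16, 17), (18, 19)],
  [(16, 32), (16, 32), (5, 11), (5, 11), (5, 7), (16, 17), (18, 19)],
  [(16, 32), (16, 32), (5, 11), (5, 11), (7, 10), (5, 7), (16, 17), (18, 19)],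
  [(16, 32), (16, 32), (5, 11), (5, 11), (7, 10), (7, 10), (5, 7), (16, 17), (18, 19)]]

/-- the keys of the words -/
def cKeys : List (ℕ × ℕ × ℕ × ℕ × ℕ) := [
  (1, 2, 4, 8, 16),
  (6, 15, 3, 2, 16),
  (12, 8, 9, 15, 16),
  (4, 12, 15, 6, 16),
  (3, 1, 8, 12, 16),
  (9, 6, 2, 1, 16),
  (15, 9, 1, 3, 16),
  (8, 4, 6, 9, 16),
  (2, 3, 12, 4, 16),
  (1, 2, 4, 8, 32),
  (6, 15, 3, 2, 32),
  (12, 8, 9, 15, 32),
  (4, 12, 15, 6, 32),
  (3, 1, 8, 12, 32),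
  (9, 6, 2, 1, 32),
  (15, 9, 1, 3, 32),
  (8, 4, 6, 9, 32),
  (2, 3, 12, 4, 32),
  (1, 2, 4, 8, 48),
  (6, 15, 3, 2, 48),
  (12, 8, 9, 15, 48),
  (4, 12, 15, 6, 48),
  (3, 1, 8, 12, 48),
  (9, 6, 2, 1, 48),
  (15, 9, 1, 3, 48),
  (8, 4, 6, 9, 48),
  (2, 3, 12, 4, 48),
  (3, 2, 6, 15, 16),
  (9, 15, 12, 8, 16),
  (4, 8, 1, 2, 16),
  (8, 12, 3, 1, 16),
  (2, 1, 9, 6, 16),
  (15, 6, 4, 12, 16),
  (6, 9, 8, 4, 16),
  (12, 4, 2, 3, 16),
  (1, 3, 15, 9, 16),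
  (3, 2, 6, 15, 32),
  (9, 15, 12, 8, 32),
  (4, 8, 1, 2, 32),
  (8, 12, 3, 1, 32),
  (2, 1, 9, 6, 32),
  (15, 6, 4, 12, 32),
  (6, 9, 8, 4, 32),
  (12, 4, 2, 3, 32),
  (1, 3, 15, 9, 32),
  (3, 2, 6, 15, 48),
  (9, 15, 12, 8, 48),
  (4, 8, 1, 2, 48),
  (8, 12, 3, 1, 48),
  (2, 1, 9, 6, 48),
  (15, 6, 4, 12, 48),
  (6, 9, 8, 4, 48),
  (12, 4, 2, 3, 48),
  (1, 3, 15, 9, 48),
  (1, 2, 6, 9, 16),
  (6, 15, 12, 4, 16),
  (12, 8, 1, 3, 16),
  (4, 12, 3, 2, 16),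
  (3, 1, 9, 15, 16),
  (9, 6, 4, 8, 16),
  (15, 9, 8, 12, 16),
  (8, 4, 2, 1, 16),
  (2, 3, 15, 6, 16),
  (1, 2, 6, 9, 32),
  (6, 15, 12, 4, 32),
  (12, 8, 1, 3, 32),
  (4, 12, 3, 2, 32),
  (3, 1, 9, 15, 32),
  (9, 6, 4, 8, 32),
  (15, 9, 8, 12, 32),
  (8, 4, 2, 1, 32),
  (2, 3, 15, 6, 32),
  (1, 2, 6, 9, 48),
  (6, 15, 12, 4, 48),
  (12, 8, 1, 3, 48),
  (4, 12, 3, 2, 48),
  (3, 1, 9, 15, 48),
  (9, 6, 4, 8, 48),
  (15, 9, 8, 12, 48),
  (8, 4, 2, 1, 48),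
  (2, 3, 15, 6, 48),
  (3, 2, 4, 12, 16),
  (9, 15, 3, 1, 16),
  (4, 8, 9, 6, 16),
  (8, 12, 15, 9, 16),
  (2, 1, 8, 4, 16),
  (15, 6, 2, 3, 16),
  (6, 9, 1, 2, 16),
  (12, 4, 6, 15, 16),
  (1, 3, 12, 8, 16),
  (3, 2, 4, 12, 32),
  (9, 15, 3, 1, 32),
  (4, 8, 9, 6, 32),
  (8, 12, 15, 9, 32),
  (2, 1, 8, 4, 32),
  (15, 6, 2, 3, 32),
  (6, 9, 1, 2, 32),
  (12, 4, 6, 15, 32),
  (1, 3, 12, 8, 32),
  (3, 2, 4, 12, 48),
  (9, 15, 3, 1, 48),
  (4, 8, 9, 6, 48),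
  (8, 12, 15, 9, 48),
  (2, 1, 8, 4, 48),
  (15, 6, 2, 3, 48),
  (6, 9, 1, 2, 48),
  (12, 4, 6, 15, 48),
  (1, 3, 12, 8, 48)]

/-- the words of odd order -/
def rWords : List (List (ℕ × ℕ)) := cWords.take 27

theorem cKeys_eq : cWords.map (fun w => key (actW w)) = cKeys := by decide +kernel

theorem cKeys_nodup : cKeys.Nodup := by decide +kernel

theorem cKeys_length : cKeys.length = 108 := by decide +kernel

theorem cWords_ok : (cWords.all fun w => w.all fun p =>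
    decide (p.1 < 64) && decide (p.2 < 64) && qb p.1 && qb p.2) = true := by decide +kernel

theorem cWords_comm : (cWords.all fun w => [1, 2, 4, 8, 16, 32].all fun v =>
    actW w (g0 v) == g0 (actW w v)) = true := by decide +kernel

theorem g0_fix : ∀ v < 64, (g0 v = v ↔ v < 16) := by decide +kernel

theorem g0_lt : ∀ v < 64, g0 v < 64 ∧ g1 v < 64 ∧ g2 v < 64 := by decide +kernel

theorem g_cube : ∀ v < 64, g0 (g0 (g0 v)) = v ∧ g1 (g1 (g1 v)) = v ∧ g2 (g2 (g2 v)) = v := by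
  decide +kernel

theorem g_comm : ∀ v < 64,
    g0 (g1 v) = g1 (g0 v) ∧ g0 (g2 v) = g2 (g0 v) ∧ g1 (g2 v) = g2 (g1 v) := by
  decide +kernel

theorem lift_zero : ∀ v < 64, v ^^^ g0 v ^^^ g0 (g0 v) = 0 → ∃ d < 64, d ^^^ g0 d = v := by
  decide +kernel

theorem lift_one : ∀ v < 16, v ^^^ g1 v ^^^ g1 (g1 v) = 0 →
    ∃ d < 64, d < 16 ∧ d ^^^ g1 d = v := by
  decide +kernel

/-- an isometry commuting with the standard element is a word, or a word times a transvection -/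
def classB : Bool :=
  (List.range 16).all fun x1 => (x1 == 0 || qb x1) || (List.range 16).all fun x4 =>
    (qb x4 || !Bb x1 x4) || (List.range 16).all fun x2 =>
      (x2 == 0 || qb x2 || Bb x1 x2 || Bb x4 x2) || (List.range 16).all fun x8 =>
        (qb x8 || Bb x1 x8 || Bb x4 x8 || !Bb x2 x8) || [16, 32, 48].all fun x16 =>
          cKeys.contains (x1, x2, x4, x8, x16) || cKeys.contains (x4, x2, x1, x8, x16)

theorem classB_ok : classB = true := by decide +kernel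

theorem classify {x1 x2 x4 x8 x16 : ℕ} (h1 : x1 < 16) (h2 : x2 < 16) (h4 : x4 < 16) (h8 : x8 < 16)
    (n1 : x1 ≠ 0) (q1 : qb x1 = false) (q4 : qb x4 = false) (b14 : Bb x1 x4 = true) (n2 : x2 ≠ 0)
    (q2 : qb x2 = false) (b12 : Bb x1 x2 = false) (b42 : Bb x4 x2 = false) (q8 : qb x8 = false)
    (b18 : Bb x1 x8 = false) (b48 : Bb x4 x8 = false) (b28 : Bb x2 x8 = true)
    (h16 : x16 = 16 ∨ x16 = 32 ∨ x16 = 48) :
    (x1, x2, x4, x8, x16) ∈ cKeys ∨ (x4, x2, x1, x8, x16) ∈ cKeys := by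
  have h := classB_ok
  simp only [classB, List.all_eq_true, List.mem_range, Bool.or_eq_true, beq_iff_eq,
    List.contains_iff_mem, Bool.not_eq_true'] at h
  have := h x1 h1
  simp only [n1, q1, Bool.false_eq_true, false_or] at this
  have := this x4 h4
  simp only [q4, b14, Bool.false_eq_true, Bool.true_eq_false, false_or] at this
  have := this x2 h2
  simp only [n2, q2, b12, b42, Bool.false_eq_true, false_or] at this
  have := this x8 h8
  simp only [q8, b18, b48, b28, Bool.false_eq_true, Bool.true_eq_false, false_or] at this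
  exact this x16 (by rcases h16 with rfl | rfl | rfl <;> simp)

theorem tv_five : tv 5 1 = 4 ∧ tv 5 2 = 2 ∧ tv 5 4 = 1 ∧ tv 5 8 = 8 ∧ tv 5 16 = 16 ∧ tv 5 32 = 32 := by
  decide +kernel

theorem no_transvection : ∀ s < 64, s ≠ 0 → qb s = false →
    ∃ v < 64, Bb v s = false ∧ Bb v 5 = true := by
  decide +kernel

theorem odd_words : (cWords.all fun w =>
    !([1, 2, 4, 8, 16].all fun v => Nat.iterate (actW w) 27 v == v) ||
      rWords.contains w) = true := by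
  decide +kernel

theorem top_words : (cWords.all fun w =>
    !([1, 2, 4, 8, 16].all fun v =>
        actW w (g1 v) == g1 (actW w v) && actW w (g2 v) == g2 (actW w v)) ||
      rWords.contains w) = true := by
  decide +kernel

theorem kernel_words : (cWords.all fun w =>
    !([1, 2, 4, 8].all fun v => actW w v == v) ||
      ([[], [(16, 32)], [(16, 32), (16, 32)]] : List (List (ℕ × ℕ))).contains w) = true := by
  decide +kernel

theorem perp_low : ∀ v < 16, (∀ u < 16, Bb v u = false) → v = 0 := by decide +kernel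

theorem label_split : ∀ w < 64, w.testBit 0 = false → w.testBit 2 = false →
    ((g0 w).testBit 0 = false ∧ (g0 w).testBit 2 = false) ∧ (g0 w = w ↔ w < 16) := by
  decide +kernel

theorem to_sixteen : ∀ a < 64, qb a = true →
    ∃ p < 64, qb p = true ∧ ∃ r < 64, qb r = true ∧ tp p r 16 = a := by
  decide +kernel

theorem to_thirtyTwo : ∀ b < 64, qb b = true → Bb 16 b = true →
    ∃ p < 64, qb p = true ∧ ∃ r < 64, qb r = true ∧ tp p r 16 = 16 ∧ tp p r 32 = b := by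
  decide +kernel

theorem tp_inv : ∀ a < 64, qb a = true → ∀ b < 64, qb b = true → ∀ v ∈ [1, 2, 4, 8, 16, 32],
    tp b a (tp a b v) = v := by
  decide +kernel

end H95.SuzY
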